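/-
Facts about groups isomorphic to J1.
-/
import Cfsg.Agent.Lib.J1Unique.Iso

set_option autoImplicit false
set_option linter.unusedSectionVars false

namespace CfsgLib.J1WeakClosure

open Subgroup CfsgLib.JankoOne

theorem card_conjugates {L : Type*} [Group L] [Finite L] (a : L) :
    Nat.card {x : L // ∃ g, g * a * g⁻¹ = x} * Nat.card (centralizer ({a} : Set L)) = Nat.card L := by
  classical
  have hs : Nat.card (MulAction.stabilizer (ConjAct L) a) = Nat.card (centralizer ({a} : Set L)) := by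
    refine Nat.card_congr (ConjAct.ofConjAct.toEquiv.subtypeEquiv fun g => ?_)
    rw [MulAction.mem_stabilizer_iff, ConjAct.smul_def, mem_centralizer_singleton_iff]
    exact mul_inv_eq_iff_eq_mul
  have horb : Nat.card (MulAction.orbit (ConjAct L) a) = Nat.card {x : L // ∃ g, g * a * g⁻¹ = x} :=
    Nat.card_congr (Equiv.subtypeEquivRight fun x => by
      rw [MulAction.mem_orbit_iff]
      exact ⟨fun ⟨g, hg⟩ => ⟨ConjAct.ofConjAct g, hg⟩, fun ⟨g, hg⟩ => ⟨ConjAct.toConjAct g, hg⟩⟩)
  rw [← horb, ← hs, Nat.card_congr (MulAction.orbitEquivQuotientStabilizer (ConjAct L) a),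
    ← Subgroup.index_eq_card, Subgroup.index_mul_card]
  exact Nat.card_congr ConjAct.ofConjAct.toEquiv

theorem j1_involution : (∀ a b : ↥Cfsg.Spor.J1, a * a = 1 → a ≠ 1 → b * b = 1 → b ≠ 1 → ∃ g, g * a * g⁻¹ = b) ∧
    ∀ a : ↥Cfsg.Spor.J1, a * a = 1 → a ≠ 1 → Nat.card (centralizer ({a} : Set ↥Cfsg.Spor.J1)) = 120 := by
  classical
  haveI : IsSimpleGroup ↥Cfsg.Spor.J1 := CfsgLib.J1.isJ1.1
  haveI : Finite ↥Cfsg.Spor.J1 := Nat.finite_of_card_ne_zero (by rw [CfsgLib.J1.card_J1]; norm_num)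
  obtain ⟨u, hu, ⟨f⟩⟩ := CfsgLib.J1.exists_centralizer_equiv
  have h8 : ∀ P : Sylow 2 ↥Cfsg.Spor.J1, Nat.card (P : Subgroup ↥Cfsg.Spor.J1) = 8 := by
    intro P
    haveI : Fact (Nat.Prime 2) := ⟨Nat.prime_two⟩
    rw [P.card_eq_multiplicity, CfsgLib.J1.card_J1,
      show (175560 : ℕ) = 2 ^ 3 * 21945 from rfl, Nat.factorization_mul (by norm_num) (by norm_num),
      Finsupp.add_apply, Nat.factorization_pow, Finsupp.smul_apply, Nat.prime_two.factorization_self,
      Nat.factorization_eq_zero_of_not_dvd (show ¬ 2 ∣ 21945 by norm_num)]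
    norm_num
  obtain ⟨χ, hχ⟩ := exists_hyp u (CfsgLib.J1Unique.twoCentral_of_card hu h8 f) f
  refine ⟨fun a b ha ha1 hb hb1 => ?_, fun a ha ha1 => ?_⟩
  · obtain ⟨g, rfl⟩ := hχ.involution_conj ha ha1
    obtain ⟨k, rfl⟩ := hχ.involution_conj hb hb1
    exact ⟨k * g⁻¹, by group⟩
  · obtain ⟨g, rfl⟩ := hχ.involution_conj ha ha1
    rw [← hχ.card_centralizer]
    refine Nat.card_congr ((MulAut.conj g).symm.toEquiv.subtypeEquiv fun x => ?_)
    simp only [mem_centralizer_singleton_iff, MulEquiv.toEquiv_eq_coe, EquivLike.coe_coe, MulAut.conj_symm_apply]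
    exact ⟨fun h => by
      calc g⁻¹ * x * g * u = g⁻¹ * (x * (g * u * g⁻¹)) * g := by group
        _ = _ := by rw [h]; group, fun h => by
      calc x * (g * u * g⁻¹) = g * (g⁻¹ * x * g * u) * g⁻¹ := by group
        _ = _ := by rw [h]; group⟩

variable {L : Type*} [Group L] (e : L ≃* ↥Cfsg.Spor.J1)
include e

theorem like_card : Nat.card L = 175560 := by rw [Nat.card_congr e.toEquiv, CfsgLib.J1.card_J1]

theorem like_finite : Finite L := Nat.finite_of_card_ne_zero (by rw [like_card e]; norm_num)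

theorem like_simple : IsSimpleGroup L := by
  haveI : IsSimpleGroup ↥Cfsg.Spor.J1 := CfsgLib.J1.isJ1.1
  exact MulEquiv.isSimpleGroup e

theorem like_conj {a b : L} (ha : a * a = 1) (ha1 : a ≠ 1) (hb : b * b = 1) (hb1 : b ≠ 1) :
    ∃ g, g * a * g⁻¹ = b := by
  obtain ⟨g, hg⟩ := j1_involution.1 (e a) (e b) (by rw [← map_mul, ha, map_one])
    (fun h => ha1 (e.map_eq_one_iff.mp h)) (by rw [← map_mul, hb, map_one]) (fun h => hb1 (e.map_eq_one_iff.mp h))
  exact ⟨e.symm g, e.injective (by simp [hg])⟩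

theorem like_class {a : L} (ha : a * a = 1) (ha1 : a ≠ 1) : Nat.card {x : L // ∃ g, g * a * g⁻¹ = x} = 1463 := by
  haveI := like_finite e
  have h := card_conjugates a
  rw [like_card e] at h
  have hc : Nat.card (centralizer ({a} : Set L)) = 120 := by
    rw [← j1_involution.2 (e a) (by rw [← map_mul, ha, map_one]) (fun h => ha1 (e.map_eq_one_iff.mp h))]
    refine Nat.card_congr (e.toEquiv.subtypeEquiv fun x => ?_)
    simp [mem_centralizer_singleton_iff, ← map_mul]
  rw [hc] at h
  omega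

theorem like_orderOf_le (a : L) : orderOf a ≤ 19 := by
  obtain ⟨n, hn, hpow⟩ := CfsgLib.J1.exists_exponent (e a).2
  have hd : orderOf a ∣ n := by
    rw [← e.orderOf_eq]
    exact orderOf_dvd_of_pow_eq_one (Subtype.ext (by simpa using hpow))
  have : n ≤ 19 ∧ 0 < n := by
    clear hpow hd
    revert n
    decide
  exact (Nat.le_of_dvd this.2 hd).trans this.1

theorem like_odd_subgroup (U : Subgroup L) (hU : Odd (Nat.card U)) : Nat.card U ≤ 361 := by
  haveI := like_finite e
  have hd : Nat.card U ∣ 21945 := by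
    have := Subgroup.card_subgroup_dvd_card U
    rw [like_card e, show (175560 : ℕ) = 8 * 21945 from rfl] at this
    exact (Nat.Coprime.pow_right 3 hU.coprime_two_right).dvd_of_dvd_mul_left this
  haveI : IsZGroup U := IsZGroup.of_squarefree ((Squarefree.squarefree_of_dvd hd (by
    rw [Nat.squarefree_iff_nodup_primeFactorsList (by norm_num)]
    simp)))
  haveI : IsCyclic (commutator U) := IsZGroup.isCyclic_commutator _
  obtain ⟨a, ha⟩ := IsCyclic.exists_generator (α := commutator U)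
  have h1 : Nat.card (commutator U) ≤ 19 := by
    rw [← orderOf_eq_card_of_forall_mem_zpowers ha]
    simpa [Subgroup.orderOf_coe] using like_orderOf_le e ((a : U) : L)
  haveI : IsCyclic (U ⧸ commutator U) := IsZGroup.isCyclic_abelianization
  obtain ⟨b, hb⟩ := IsCyclic.exists_generator (α := U ⧸ commutator U)
  obtain ⟨c, rfl⟩ := QuotientGroup.mk'_surjective _ b
  have h2 : Nat.card (U ⧸ commutator U) ≤ 19 := by
    rw [← orderOf_eq_card_of_forall_mem_zpowers hb]
    refine (Nat.le_of_dvd (orderOf_pos c) (orderOf_map_dvd _ c)).trans ?_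
    simpa [Subgroup.orderOf_coe] using like_orderOf_le e (c : L)
  rw [(commutator U).card_eq_card_quotient_mul_card_subgroup]
  exact (Nat.mul_le_mul h2 h1).trans (by norm_num)

end CfsgLib.J1WeakClosure
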