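/-
Further finite facts about two times alternating of degree five.
-/
import Cfsg.Agent.Lib.JankoOne.Base

set_option autoImplicit false

namespace CfsgLib.J1WeakClosure

open CfsgLib.JankoOne

theorem z0_mem : z0 ∈ fourCent := mem_fourCent.mpr ⟨z0_central v0, z0_central v1⟩

theorem v0_mem : v0 ∈ fourCent := mem_fourCent.mpr ⟨rfl, gens_props.2.2.2.2.2.2.2.2.2.1⟩

theorem c0_inv : c0⁻¹ = c0 ^ 2 := inv_eq_of_mul_eq_one_right (by rw [← pow_succ', gens_props.1])

/-- The seven involutions of the Sylow subgroup. -/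
theorem four_cases {k : K} (hk : k ∈ fourCent) (h1 : k ≠ 1) : ∃ o, orbRep o = k := by
  rcases eq_or_ne k z0 with rfl | hne
  · exact ⟨none, rfl⟩
  obtain ⟨i, b, hb, rfl⟩ := four_cent_orbits (mem_fourCent.mp hk).1 (mem_fourCent.mp hk).2 h1 hne
  obtain ⟨j, hj⟩ := orbRep_shift i b
  exact ⟨some (j, ⟨b, hb⟩), by rw [hj]; rfl⟩

theorem orbRep_ne_one (o : Option (Fin 3 × Fin 2)) : orbRep o ≠ 1 := by
  have key : ∀ o, enc (orbRep o) ≠ oneC := by decide +kernel
  exact fun e => key o (by rw [e, enc_one])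

theorem orbRep_mem (o : Option (Fin 3 × Fin 2)) : orbRep o ∈ fourCent := by
  have key : ∀ o, mulC (enc (orbRep o)) (enc v0) = mulC (enc v0) (enc (orbRep o)) ∧
      mulC (enc (orbRep o)) (enc v1) = mulC (enc v1) (enc (orbRep o)) := by decide +kernel
  simp only [mem_fourCent, eq_iff, enc_mul]
  exact key o

theorem orbRep_zero (b : Fin 2) : orbRep (some (0, b)) = z0 ^ (b : ℕ) * v0 := by
  simp [orbRep]

/-- Conjugation by the element of order three fixes only the central involution. -/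
theorem orbRep_rot (j : Fin 3) (b : Fin 2) :
    orbRep (some (j, b)) = c0 ^ (j : ℕ) * orbRep (some (0, b)) * (c0 ^ (j : ℕ))⁻¹ := by
  rw [orbRep_zero]
  simp only [orbRep]
  rw [← mul_assoc (c0 ^ (j : ℕ)), (Commute.pow_right (show Commute (c0 ^ (j : ℕ)) z0 from (z0_central _).symm) _).eq,
    ← inv_pow, c0_inv, ← pow_mul]
  simp only [mul_assoc]

theorem c0_fix {k : K} (hk : k ∈ fourCent) (h : c0 * k = k * c0) : k = 1 ∨ k = z0 := by
  have key : ∀ n ∈ kList, mulC n 17601 = mulC 17601 n → mulC 17937 n = mulC n 17937 → n = oneC ∨ n = zC := by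
    decide +kernel
  have h1 := (mem_fourCent.mp hk).1
  simp only [eq_iff, enc_mul, enc_v0, enc_c0] at h h1
  rcases key _ (enc_mem k) h1 h with e | e
  · exact Or.inl (enc_injective (e.trans enc_one.symm))
  · exact Or.inr (enc_injective (e.trans enc_z0.symm))

theorem fourCent_eq_centralizer {k : K} (h : ∀ l ∈ fourCent, k * l = l * k) : k ∈ fourCent :=
  mem_fourCent.mpr ⟨h _ v0_mem, by
    have : v1 ∈ fourCent := by
      have h := c0_four v0 v0_mem
      rwa [show c0 * v0 * c0⁻¹ = v1 by rw [c0_inv]; rfl] at h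
    exact h _ this⟩

theorem gen_uniqueC : ∀ n ∈ kList, powC (mulC n 17601) 3 = oneC → mulC n 17601 ≠ oneC →
    powC (mulC n (mulC (mulC 17937 17601) (powC 17937 2))) 2 = oneC →
    mulC n (mulC (mulC 17937 17601) (powC 17937 2)) ≠ oneC →
    powC (mulC n (powC 17937 2)) 3 = oneC → mulC n (powC 17937 2) ≠ oneC → n = 2257 := by decide +kernel

theorem gen_condC : powC (mulC 2257 17601) 3 = oneC ∧ mulC 2257 17601 ≠ oneC ∧
    powC (mulC 2257 (mulC (mulC 17937 17601) (powC 17937 2))) 2 = oneC ∧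
    mulC 2257 (mulC (mulC 17937 17601) (powC 17937 2)) ≠ oneC ∧
    powC (mulC 2257 (powC 17937 2)) 3 = oneC ∧ mulC 2257 (powC 17937 2) ≠ oneC := by decide +kernel

theorem closureC : ∀ n ∈ kList, n ∈ (List.range 2).flatMap (fun a => (List.range 2).flatMap fun b =>
    (List.range 2).flatMap fun d => (List.range 3).flatMap fun i => (List.range 5).map fun j =>
    mulC (powC zC a) (mulC (powC 17601 b) (mulC (powC (mulC (mulC 17937 17601) (powC 17937 2)) d)
      (mulC (powC 17937 i) (powC 2257 j))))) := by decide +kernel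

theorem closure_gens (P : Subgroup K) (hz : z0 ∈ P) (hv : v0 ∈ P) (hc : c0 ∈ P) (hq : q0 ∈ P) : P = ⊤ := by
  refine (Subgroup.eq_top_iff' P).mpr fun k => ?_
  have h := closureC _ (enc_mem k)
  simp only [List.mem_flatMap, List.mem_map, List.mem_range] at h
  obtain ⟨a, -, b, -, d, -, i, -, j, -, e⟩ := h
  have : k = z0 ^ a * (v0 ^ b * (v1 ^ d * (c0 ^ i * q0 ^ j))) := by
    rw [eq_iff, ← e]
    simp only [v1, enc_mul, enc_pow, enc_z0, enc_v0, enc_c0, enc_q0, zC]
  rw [this]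
  have hv1 : v1 ∈ P := mul_mem (mul_mem hc hv) (pow_mem hc 2)
  exact mul_mem (pow_mem hz a) (mul_mem (pow_mem hv b) (mul_mem (pow_mem hv1 d) (mul_mem (pow_mem hc i) (pow_mem hq j))))

/-- An endomorphism fixing a Sylow subgroup and the element of order three normalising it is the identity. -/
theorem rigid (f : K →* K) (hf : Function.Injective f) (hE : ∀ l ∈ fourCent, f l = l) (hc : f c0 = c0) (k : K) :
    f k = k := by
  obtain ⟨a, b, c, d, e, g⟩ := gen_condC
  have hv1 : f v1 = v1 := by rw [v1, map_mul, map_mul, map_pow, hE _ v0_mem, hc]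
  have tr : ∀ (u : K) (n : ℕ), f u = u → (q0 * u) ^ n = 1 → q0 * u ≠ 1 →
      (f q0 * u) ^ n = 1 ∧ f q0 * u ≠ 1 := by
    intro u n hu h1 h2
    refine ⟨?_, fun e => h2 (hf ?_)⟩
    · rw [← hu, ← map_mul, ← map_pow, h1, map_one]
    · rw [map_mul, hu, e, map_one]
  have A := tr v0 3 (hE _ v0_mem)
  have B := tr v1 2 hv1
  have C := tr (c0 ^ 2) 3 (by rw [map_pow, hc])
  simp only [ne_eq, v1, eq_iff, enc_mul, enc_pow, enc_one, enc_q0, enc_v0, enc_c0] at A B C
  obtain ⟨A1, A2⟩ := A a b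
  obtain ⟨B1, B2⟩ := B c d
  obtain ⟨C1, C2⟩ := C e g
  have hq : f q0 = q0 := enc_injective ((gen_uniqueC _ (enc_mem _) A1 A2 B1 B2 C1 C2).trans enc_q0.symm)
  have := closure_gens (f.eqLocus (MonoidHom.id K)) (hE _ z0_mem) (hE _ v0_mem) hc hq
  exact ((Subgroup.eq_top_iff' _).mp this k : f k = k)

/-- A normal subgroup containing the central involution and one further involution of the Sylow subgroup. -/
theorem normal_eq_top (P : Subgroup K) [hn : P.Normal] (hz : z0 ∈ P) {o : Fin 3 × Fin 2}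
    (ho : orbRep (some o) ∈ P) : P = ⊤ := by
  obtain ⟨i, b⟩ := o
  rw [orbRep_rot, hn.mem_comm_iff, inv_mul_cancel_left, orbRep_zero] at ho
  have hv : v0 ∈ P := (Subgroup.mul_mem_cancel_left P (pow_mem hz _)).mp ho
  haveI : IsSimpleGroup (alternatingGroup (Fin 5)) := inferInstance
  let ι : alternatingGroup (Fin 5) →* K := MonoidHom.inr _ _
  have htop : P.comap ι = ⊤ := by
    refine (Subgroup.Normal.eq_bot_or_eq_top (H := P.comap ι) inferInstance).resolve_left fun e => ?_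
    have : v0.2 ∈ P.comap ι := hv
    rw [e, Subgroup.mem_bot] at this
    exact gens_props.2.2.2.2.2.1 (Prod.ext rfl this)
  refine closure_gens P hz hv ?_ ?_
  · exact ((Subgroup.eq_top_iff' _).mp htop c0.2 : ι c0.2 ∈ P)
  · exact ((Subgroup.eq_top_iff' _).mp htop q0.2 : ι q0.2 ∈ P)

open scoped commutatorElement in
/-- The involution of the alternating factor is a commutator. -/
theorem v0_commutator : ⁅c0, v1⁆ = v0 := by
  rw [commutatorElement_def, c0_inv, gens_props.2.2.2.2.2.2.2.2.2.2.1, inv_eq_of_mul_eq_one_right gens_props.2.2.2.2.2.2.2.1,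
    mul_assoc, gens_props.2.2.2.2.2.2.2.1, mul_one]

theorem inv_conj_fourC : ∀ n ∈ kList, mulC n n = oneC → n ≠ oneC → ∃ l ∈ kList, ∃ o,
    mulC l n = mulC (enc (orbRep o)) l := by decide +kernel

/-- Every involution is conjugate into the Sylow subgroup. -/
theorem inv_conj_four {k : K} (h : k * k = 1) (h1 : k ≠ 1) : ∃ l : K, ∃ o, l * k * l⁻¹ = orbRep o := by
  simp only [ne_eq, eq_iff, enc_mul, enc_one] at h h1
  obtain ⟨n, hn, o, e⟩ := inv_conj_fourC _ (enc_mem k) h h1
  obtain ⟨l, rfl⟩ := exists_enc hn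
  exact ⟨l, o, mul_inv_eq_iff_eq_mul.mpr (enc_injective (by rw [enc_mul, enc_mul, e]))⟩

theorem orbRep_coords : ∀ o, ∃ a : Fin 2, ∃ b : Fin 2, ∃ d : Fin 2,
    enc (orbRep o) = mulC (powC zC a) (mulC (powC 17601 b) (powC (mulC (mulC 17937 17601) (powC 17937 2)) d)) := by
  decide +kernel

theorem fourCent_le (P : Subgroup K) (hz : z0 ∈ P) (hv : v0 ∈ P) (hv1 : v1 ∈ P) : fourCent ≤ P := by
  intro k hk
  rcases eq_or_ne k 1 with rfl | h1
  · exact one_mem P
  obtain ⟨o, rfl⟩ := four_cases hk h1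
  obtain ⟨a, b, d, e⟩ := orbRep_coords o
  have : orbRep o = z0 ^ (a : ℕ) * (v0 ^ (b : ℕ) * v1 ^ (d : ℕ)) := by
    rw [eq_iff, e]
    simp only [v1, enc_mul, enc_pow, enc_z0, enc_v0, enc_c0, zC]
  rw [this]
  exact mul_mem (pow_mem hz _) (mul_mem (pow_mem hv _) (pow_mem hv1 _))

/-- An involution of the Sylow subgroup in the alternating factor. -/
theorem four_alt {k : K} (hk : k ∈ fourCent) (h1 : k ≠ 1) (hf : k.1 = 1) : ∃ i : Fin 3, orbRep (some (i, 0)) = k := by
  obtain ⟨o, rfl⟩ := four_cases hk h1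
  have key : ∀ o, enc (orbRep o) / 32768 = 0 → ∃ i : Fin 3, o = some (i, 0) := by decide +kernel
  obtain ⟨i, rfl⟩ := key o (by rw [(digits _).2, hf]; rfl)
  exact ⟨i, rfl⟩

theorem fin_three : ∀ f : Fin 3 → Fin 3, Function.Injective f → (∃ i, f i = i) ∨ f (f (f 0)) = 0 := by decide

end CfsgLib.J1WeakClosure
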