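/-
An involution whose weak closure in its centraliser is two times alternating of degree five.
-/
import Cfsg.Agent.Lib.J1WeakClosure.KExtra

set_option autoImplicit false
set_option linter.unusedSectionVars false

namespace CfsgLib.J1WeakClosure

open Subgroup CfsgLib.JankoOne

variable {G : Type*} [Group G] [Finite G]

/-- Conjugacy to the distinguished involution. -/
def Cls (t x : G) : Prop := ∃ g : G, g * t * g⁻¹ = x

theorem Cls.self (t : G) : Cls t t := ⟨1, by simp⟩

theorem Cls.conj {t x : G} (h : Cls t x) (a : G) : Cls t (a * x * a⁻¹) := by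
  obtain ⟨g, rfl⟩ := h
  exact ⟨a * g, by group⟩

/-- The hypotheses, with the weak closure parametrised. -/
structure Setup (t : G) (φ : K →* G) : Prop where
  inj : Function.Injective φ
  image : φ z0 = t
  gen : φ.range = Subgroup.closure {x : G | ∃ g : G, x = g * t * g⁻¹ ∧ x * t = t * x}
  sylow : ∃ S : Sylow 2 G, t ∈ (S : Subgroup G) ∧ ∀ s ∈ (S : Subgroup G), s * t = t * s

/-- The Sylow subgroup of the weak closure. -/
def four (φ : K →* G) : Subgroup G := fourCent.map φ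

variable {t : G} {φ : K →* G}

theorem mem_four {x : G} : x ∈ four φ ↔ ∃ k ∈ fourCent, φ k = x := Iff.rfl

theorem orb_mem_four (o : Option (Fin 3 × Fin 2)) : φ (orbRep o) ∈ four φ := ⟨_, orbRep_mem o, rfl⟩

theorem four_comm {x y : G} (hx : x ∈ four φ) (hy : y ∈ four φ) : x * y = y * x := by
  obtain ⟨a, ha, rfl⟩ := hx
  obtain ⟨b, hb, rfl⟩ := hy
  have ea := inv_eq_of_mul_eq_one_right (fourCent_sq ha)
  have eb := inv_eq_of_mul_eq_one_right (fourCent_sq hb)
  have eab := inv_eq_of_mul_eq_one_right (fourCent_sq (mul_mem ha hb))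
  rw [mul_inv_rev, ea, eb] at eab
  rw [← map_mul, ← map_mul, eab]

theorem Setup.t_sq (h : Setup t φ) : t * t = 1 := by rw [← h.image, ← map_mul, z0_sq.1, map_one]

theorem Setup.t_ne (h : Setup t φ) : t ≠ 1 :=
  fun e => z0_sq.2 (h.inj (h.image.trans (e.trans (map_one φ).symm)))

theorem Setup.t_mem (h : Setup t φ) : t ∈ four φ := ⟨z0, z0_mem, h.image⟩

theorem Setup.range_comm (h : Setup t φ) (k : K) : φ k * t = t * φ k := by
  rw [← h.image, ← map_mul, ← map_mul, z0_central]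

theorem Setup.mem_range (h : Setup t φ) {x : G} (hx : Cls t x) (hc : x * t = t * x) : x ∈ φ.range := by
  rw [h.gen]
  obtain ⟨g, rfl⟩ := hx
  exact Subgroup.subset_closure ⟨g, rfl, hc⟩

theorem Setup.range_normal (h : Setup t φ) {c x : G} (hc : c * t = t * c) (hx : x ∈ φ.range) :
    c * x * c⁻¹ ∈ φ.range := by
  rw [h.gen] at hx ⊢
  have hle : (Subgroup.closure {x : G | ∃ g : G, x = g * t * g⁻¹ ∧ x * t = t * x}).map (MulAut.conj c).toMonoidHom ≤
      Subgroup.closure {x : G | ∃ g : G, x = g * t * g⁻¹ ∧ x * t = t * x} := by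
    rw [MonoidHom.map_closure]
    refine Subgroup.closure_mono ?_
    rintro _ ⟨y, ⟨g, rfl, hy⟩, rfl⟩
    refine ⟨c * g, by simp [mul_assoc], ?_⟩
    show c * (g * t * g⁻¹) * c⁻¹ * t = t * (c * (g * t * g⁻¹) * c⁻¹)
    rw [mul_assoc (c * (g * t * g⁻¹)), show c⁻¹ * t = t * c⁻¹ from ((Commute.inv_left (hc : Commute c t)).eq)]
    calc c * (g * t * g⁻¹) * (t * c⁻¹) = c * (g * t * g⁻¹ * t) * c⁻¹ := by group
      _ = c * t * (g * t * g⁻¹) * c⁻¹ := by rw [hy]; group
      _ = _ := by rw [hc]; group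
  exact hle ⟨x, hx, rfl⟩

/-- Conjugation by an element of the centraliser, in coordinates. -/
theorem Setup.exists_auto (h : Setup t φ) {c : G} (hc : c * t = t * c) :
    ∃ f : K →* K, Function.Injective f ∧ ∀ k, φ (f k) = c * φ k * c⁻¹ := by
  choose f hf using fun k : K => h.range_normal hc ⟨k, rfl⟩
  refine ⟨MonoidHom.mk' f fun a b => h.inj ?_, fun a b e => h.inj ?_, hf⟩
  · rw [map_mul φ, hf, hf, hf, map_mul]; group
  · have := congrArg φ e
    simp only [MonoidHom.mk'_apply, hf, mul_left_inj, mul_right_inj] at this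
    exact this

theorem card_four (hφ : Function.Injective φ) : Nat.card (four φ) = 8 := by
  rw [four, Subgroup.card_map_of_injective hφ, card_fourCent]

theorem isPGroup_four (hφ : Function.Injective φ) : IsPGroup 2 (four φ) :=
  IsPGroup.of_card (n := 3) (card_four hφ)

/-- A 2-subgroup containing the Sylow subgroup of the weak closure meets it there. -/
theorem Setup.inter_four (h : Setup t φ) {M : Subgroup G} (hM : IsPGroup 2 M) (hle : four φ ≤ M) {x : G}
    (hx : x ∈ M) (hxW : x ∈ φ.range) : x ∈ four φ := by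
  haveI : Fact (Nat.Prime 2) := ⟨Nat.prime_two⟩
  obtain ⟨k, rfl⟩ := hxW
  have hp : IsPGroup 2 (M.comap φ) := hM.comap_of_injective _ h.inj
  obtain ⟨n, hn⟩ := IsPGroup.iff_card.mp hp
  have hd : 2 ^ n ∣ 120 := by
    rw [← hn, ← card_K, ← Nat.card_eq_fintype_card]
    exact Subgroup.card_subgroup_dvd_card _
  have hn3 : n ≤ 3 := by
    by_contra hc
    exact absurd ((pow_dvd_pow 2 (show 4 ≤ n by omega)).trans hd) (by norm_num)
  have : fourCent = M.comap φ := Subgroup.eq_of_le_of_card_ge (fun l hl => hle ⟨l, hl, rfl⟩) (by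
    rw [hn, card_fourCent]
    exact Nat.pow_le_pow_right (by norm_num) hn3)
  exact ⟨k, this ▸ hx, rfl⟩

theorem Setup.exists_sylow_four (h : Setup t φ) :
    ∃ S : Sylow 2 G, four φ ≤ (S : Subgroup G) ∧ ∀ s ∈ (S : Subgroup G), s * t = t * s := by
  haveI : Fact (Nat.Prime 2) := ⟨Nat.prime_two⟩
  obtain ⟨S₀, -, hS₀⟩ := h.sylow
  set C := Subgroup.centralizer ({t} : Set G)
  have hSC : (S₀ : Subgroup G) ≤ C := fun s hs => mem_centralizer_singleton_iff.mpr (hS₀ s hs)
  have hEC : four φ ≤ C := fun x hx => mem_centralizer_singleton_iff.mpr (four_comm hx h.t_mem)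
  obtain ⟨R, hR⟩ := ((isPGroup_four h.inj).of_equiv (Subgroup.subgroupOfEquivOfLe hEC).symm).exists_le_sylow
  obtain ⟨c, hc⟩ := MulAction.exists_smul_eq C R (S₀.subtype hSC)
  have hct : (c : G) * t = t * c := mem_centralizer_singleton_iff.mp c.2
  refine ⟨(c : G)⁻¹ • S₀, fun x hx => ?_, fun s hs => ?_⟩
  · have : c * ⟨x, hEC hx⟩ * c⁻¹ ∈ (S₀.subtype hSC : Subgroup C) := by
      rw [← hc, Sylow.coe_subgroup_smul]
      exact Subgroup.mem_map.mpr ⟨⟨x, hEC hx⟩, hR (by simpa [Subgroup.mem_subgroupOf] using hx), by simp⟩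
    rw [Sylow.coe_subgroup_smul, Subgroup.mem_pointwise_smul_iff_inv_smul_mem]
    simpa [Subgroup.mem_subgroupOf, MulAut.conj_symm_apply, mul_assoc] using this
  · rw [Sylow.coe_subgroup_smul] at hs
    obtain ⟨y, hy, rfl⟩ := Subgroup.mem_map.mp hs
    show (c : G)⁻¹ * y * (c : G)⁻¹⁻¹ * t = t * ((c : G)⁻¹ * y * (c : G)⁻¹⁻¹)
    rw [inv_inv, mul_assoc _ (c : G), hct, ← mul_assoc, mul_assoc (c : G)⁻¹ y t, hS₀ y hy, ← mul_assoc,
      show (c : G)⁻¹ * t = t * (c : G)⁻¹ from (Commute.inv_left (hct : Commute (c : G) t)).eq]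
    group

/-- The central involution and one orbit of three generate the Sylow subgroup. -/
theorem four_le {P : Subgroup G} (hz : φ z0 ∈ P) (b : Fin 2) (h0 : φ (orbRep (some (0, b))) ∈ P)
    (h1 : φ (orbRep (some (1, b))) ∈ P) : four φ ≤ P := by
  have key : ∀ i : Fin 2, ∀ k : K, φ (orbRep (some (i.castSucc, b))) ∈ P →
      k = orbRep (some (i.castSucc, 0)) → z0 ^ (b : ℕ) * k = orbRep (some (i.castSucc, b)) → k ∈ P.comap φ := by
    intro i k hk _ e
    rw [← e, map_mul, map_pow] at hk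
    exact (Subgroup.mul_mem_cancel_left P (pow_mem hz _)).mp hk
  have e0 : z0 ^ (b : ℕ) * v0 = orbRep (some (((0 : Fin 2).castSucc), b)) := by
    show _ = z0 ^ (b : ℕ) * (c0 ^ 0 * v0 * c0 ^ (2 * 0))
    simp
  have e1 : z0 ^ (b : ℕ) * v1 = orbRep (some (((1 : Fin 2).castSucc), b)) := by
    show z0 ^ (b : ℕ) * (c0 * v0 * c0 ^ 2) = z0 ^ (b : ℕ) * (c0 ^ 1 * v0 * c0 ^ (2 * 1))
    simp
  have hv : v0 ∈ P.comap φ := key 0 v0 h0 (by simp [orbRep]) e0
  have hv1 : v1 ∈ P.comap φ := key 1 v1 h1 (by simp [orbRep, v1]) e1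
  rintro _ ⟨k, hk, rfl⟩
  exact fourCent_le _ (Subgroup.mem_comap.mpr hz) hv hv1 hk

theorem Setup.exists_orb_cls (h : Setup t φ) : ∃ o, Cls t (φ (orbRep (some o))) := by
  by_contra hcon
  push Not at hcon
  have hsub : {x : G | ∃ g : G, x = g * t * g⁻¹ ∧ x * t = t * x} ⊆ ({t} : Set G) := by
    rintro x ⟨g, rfl, hx⟩
    obtain ⟨k, hk⟩ := h.mem_range ⟨g, rfl⟩ hx
    have hk2 : k * k = 1 := h.inj (by rw [map_mul, hk, conj_mul, h.t_sq, map_one]; group)
    have hk1 : k ≠ 1 := fun e => h.t_ne (by rw [e, map_one] at hk; exact conj_eq_one_iff.mp hk.symm)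
    obtain ⟨l, o, hl⟩ := inv_conj_four hk2 hk1
    have hc : Cls t (φ (orbRep o)) := by
      rw [← hl, map_mul, map_mul, map_inv, hk]
      exact (Cls.conj ⟨g, rfl⟩ _)
    rcases o with _ | o
    · have hkz : k = z0 := by
        rw [show orbRep none = z0 from rfl, mul_inv_eq_iff_eq_mul, z0_central] at hl
        exact mul_left_cancel hl
      rw [Set.mem_singleton_iff, ← hk, hkz, h.image]
    · exact absurd hc (hcon o)
  have hle : φ.range ≤ Subgroup.zpowers t := by
    rw [h.gen, Subgroup.closure_le]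
    exact hsub.trans (Set.singleton_subset_iff.mpr (Subgroup.mem_zpowers t))
  have := Subgroup.card_le_of_le hle
  rw [Nat.card_congr (MonoidHom.ofInjective h.inj).symm.toEquiv, Nat.card_eq_fintype_card, card_K,
    Nat.card_zpowers, orderOf_eq_prime (p := 2) (by rw [sq, h.t_sq]) h.t_ne] at this
  norm_num at this

end CfsgLib.J1WeakClosure
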