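/-
Fusion of the conjugates of the involution in the Sylow subgroup of the weak closure.
-/
import Cfsg.Agent.Lib.J1WeakClosure.Setup

set_option autoImplicit false
set_option linter.unusedSectionVars false

namespace CfsgLib.J1WeakClosure

open Subgroup CfsgLib.JankoOne

variable {G : Type*} [Group G] [Finite G] {t : G} {φ : K →* G}

theorem conj_four_of_le {g : G} (hg : ∀ x ∈ four φ, g * x * g⁻¹ ∈ four φ) :
    g ∈ normalizer (four φ : Set G) :=
  Subgroup.mem_normalizer_fintype hg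

theorem Setup.cls_sylow (h : Setup t φ) {S : Sylow 2 G} (hS : four φ ≤ (S : Subgroup G))
    (hSt : ∀ s ∈ (S : Subgroup G), s * t = t * s) {x : G} (hx : x ∈ (S : Subgroup G)) (hc : Cls t x) :
    x ∈ four φ :=
  h.inter_four S.2 hS hx (h.mem_range hc (hSt x hx))

/-- Conjugates of the Sylow subgroup of the weak closure in a 2-subgroup containing it coincide with it. -/
theorem Setup.pull (h : Setup t φ) {R : Subgroup G} (hR : IsPGroup 2 R) (hle : four φ ≤ R) {g : G}
    (hg : ∀ x ∈ four φ, g * x * g⁻¹ ∈ R) : g ∈ normalizer (four φ : Set G) := by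
  haveI : Fact (Nat.Prime 2) := ⟨Nat.prime_two⟩
  obtain ⟨S, hS, hSt⟩ := h.exists_sylow_four
  obtain ⟨T, hT⟩ := hR.exists_le_sylow
  obtain ⟨k, hk⟩ := MulAction.exists_smul_eq G T S
  have hmove : ∀ x ∈ R, k * x * k⁻¹ ∈ (S : Subgroup G) := fun x hx => by
    rw [← hk, Sylow.coe_subgroup_smul]
    exact Subgroup.mem_map.mpr ⟨x, hT hx, by simp⟩
  obtain ⟨⟨i, b⟩, hib⟩ := h.exists_orb_cls
  have hall : ∀ j, Cls t (φ (orbRep (some (j, b)))) := by
    intro j
    have h0 : Cls t (φ (orbRep (some (0, b)))) := by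
      have := hib.conj (φ (c0 ^ (i : ℕ)))⁻¹
      rw [orbRep_rot, map_mul, map_mul, map_inv] at this
      generalize φ (c0 ^ (i : ℕ)) = a', φ (orbRep (some (0, b))) = w at this ⊢
      rwa [show a'⁻¹ * (a' * w * a'⁻¹) * a'⁻¹⁻¹ = w by group] at this
    rw [orbRep_rot, map_mul, map_mul, map_inv]
    exact h0.conj _
  have key : ∀ a : G, (∀ x ∈ four φ, a * x * a⁻¹ ∈ R) → k * a ∈ normalizer (four φ : Set G) := by
    intro a ha
    refine conj_four_of_le fun x hx => ?_
    have hcl : ∀ o, Cls t (φ o) → φ o ∈ four φ →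
        o ∈ ((four φ).comap ((MulAut.conj (k * a)).toMonoidHom)).comap φ := by
      intro o ho hm
      show k * a * φ o * (k * a)⁻¹ ∈ four φ
      refine h.cls_sylow hS hSt ?_ (ho.conj _)
      have := hmove _ (ha _ hm)
      simpa [mul_assoc] using this
    have := four_le (φ := φ) (P := (four φ).comap ((MulAut.conj (k * a)).toMonoidHom))
      (hcl z0 (h.image.symm ▸ Cls.self t) ⟨z0, z0_mem, rfl⟩) b
      (hcl _ (hall 0) (orb_mem_four _)) (hcl _ (hall 1) (orb_mem_four _)) hx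
    exact this
  have h1 := key 1 fun x hx => by simpa using hle hx
  rw [mul_one] at h1
  have := mul_mem (inv_mem h1) (key g hg)
  rwa [inv_mul_cancel_left] at this

/-- Conjugates in the Sylow subgroup of the weak closure are conjugate in its normaliser. -/
theorem Setup.fusion (h : Setup t φ) {x : G} (hx : x ∈ four φ) (hc : Cls t x) :
    ∃ n ∈ normalizer (four φ : Set G), n * t * n⁻¹ = x := by
  haveI : Fact (Nat.Prime 2) := ⟨Nat.prime_two⟩
  obtain ⟨g, rfl⟩ := hc
  set C := Subgroup.centralizer ({g * t * g⁻¹} : Set G)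
  have hEC : four φ ≤ C := fun y hy => mem_centralizer_singleton_iff.mpr (four_comm hy hx)
  have hE'C : (four φ).map (MulAut.conj g).toMonoidHom ≤ C := by
    rintro _ ⟨y, hy, rfl⟩
    refine mem_centralizer_singleton_iff.mpr ?_
    show g * y * g⁻¹ * (g * t * g⁻¹) = g * t * g⁻¹ * (g * y * g⁻¹)
    rw [conj_mul, conj_mul, four_comm hy h.t_mem]
  obtain ⟨R, hR⟩ := ((isPGroup_four h.inj).of_equiv (Subgroup.subgroupOfEquivOfLe hEC).symm).exists_le_sylow
  obtain ⟨R', hR'⟩ :=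
    (((isPGroup_four h.inj).map _).of_equiv (Subgroup.subgroupOfEquivOfLe hE'C).symm).exists_le_sylow
  obtain ⟨c, hc⟩ := MulAction.exists_smul_eq C R' R
  refine ⟨(c : G) * g, h.pull (R.2.map C.subtype) (fun y hy => ⟨⟨y, hEC hy⟩, hR ?_, rfl⟩) fun y hy => ?_, ?_⟩
  · exact hy
  · refine ⟨c * ⟨g * y * g⁻¹, hE'C ⟨y, hy, rfl⟩⟩ * c⁻¹, ?_, by simp [mul_assoc]⟩
    rw [← hc, Sylow.coe_subgroup_smul]
    exact Subgroup.mem_map.mpr ⟨⟨g * y * g⁻¹, hE'C ⟨y, hy, rfl⟩⟩, hR' ⟨y, hy, rfl⟩, by simp⟩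
  · have hcy := mem_centralizer_singleton_iff.mp c.2
    calc (c : G) * g * t * ((c : G) * g)⁻¹ = c * (g * t * g⁻¹) * (c : G)⁻¹ := by group
      _ = _ := by rw [hcy]; group

/-- All involutions of the Sylow subgroup of the weak closure are conjugate to `t`. -/
theorem Setup.cls_orb (h : Setup t φ) (o : Option (Fin 3 × Fin 2)) : Cls t (φ (orbRep o)) := by
  classical
  haveI : Fact (Nat.Prime 2) := ⟨Nat.prime_two⟩
  obtain ⟨S, hS, hSt⟩ := h.exists_sylow_four
  set N := normalizer (four φ : Set G)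
  have hSN : (S : Subgroup G) ≤ N := fun s hs => conj_four_of_le fun x hx => by
    obtain ⟨k, -, rfl⟩ := id hx
    exact h.inter_four S.2 hS (mul_mem (mul_mem hs (hS hx)) (inv_mem hs)) (h.range_normal (hSt s hs) ⟨k, rfl⟩)
  letI : MulAction N G := MulAction.compHom G ((ConjAct.toConjAct : G ≃* ConjAct G).toMonoidHom.comp N.subtype)
  have hsmul : ∀ (n : N) (x : G), n • x = (n : G) * x * (n : G)⁻¹ := fun n x => ConjAct.smul_def _ _
  set O := MulAction.orbit N t
  have hodd : Odd (Nat.card O) := by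
    rw [Nat.card_congr (MulAction.orbitEquivQuotientStabilizer N t), ← Subgroup.index_eq_card]
    have h1 : (S : Subgroup G).subgroupOf N ≤ MulAction.stabilizer N t := fun n hn => by
      rw [MulAction.mem_stabilizer_iff, hsmul, hSt n hn, mul_inv_cancel_right]
    have h2 : ¬ 2 ∣ ((S : Subgroup G).subgroupOf N).index := fun hd => S.not_dvd_index
      (hd.trans (Dvd.intro _ (Subgroup.relIndex_mul_index hSN)))
    exact Nat.odd_iff.mpr (Nat.two_dvd_ne_zero.mp fun hd => h2 (hd.trans (Subgroup.index_dvd_of_le h1)))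
  have hO : ∀ x, x ∈ O ↔ x ∈ four φ ∧ Cls t x := by
    refine fun x => ⟨?_, fun ⟨h1, h2⟩ => ?_⟩
    · rintro ⟨n, rfl⟩
      show n • t ∈ four φ ∧ Cls t (n • t)
      rw [hsmul]
      exact ⟨(mem_normalizer_iff.mp n.2 t).mp h.t_mem, ⟨n, rfl⟩⟩
    · obtain ⟨n, hn, e⟩ := h.fusion h1 h2
      exact ⟨⟨n, hn⟩, (hsmul _ _).trans e⟩
  have hrot : ∀ (i j : Fin 3) (b : Fin 2), Cls t (φ (orbRep (some (i, b)))) → Cls t (φ (orbRep (some (j, b)))) := by
    intro i j b hi
    have := hi.conj (φ (c0 ^ (j : ℕ)) * (φ (c0 ^ (i : ℕ)))⁻¹)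
    rw [orbRep_rot i b, map_mul, map_mul, map_inv] at this
    rw [orbRep_rot j b, map_mul, map_mul, map_inv]
    generalize φ (c0 ^ (j : ℕ)) = a, φ (c0 ^ (i : ℕ)) = a', φ (orbRep (some (0, b))) = w at this ⊢
    rwa [show a * a'⁻¹ * (a' * w * a'⁻¹) * (a * a'⁻¹)⁻¹ = a * w * a⁻¹ by group] at this
  rcases o with _ | ⟨j, b⟩
  · exact h.image.symm ▸ Cls.self t
  by_contra hcon
  obtain ⟨⟨i, b'⟩, hib⟩ := h.exists_orb_cls
  have hne : ∀ j', ¬ Cls t (φ (orbRep (some (j', b)))) := fun j' hj => hcon (hrot j' j b hj)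
  have hbb : b' = 1 - b := by
    by_contra e
    exact hne i (fin_two_eq b' b e ▸ hib)
  let f : Option (Fin 3) → G := fun o => φ (orbRep (o.map fun i => (i, b')))
  have hf : Function.Injective f :=
    h.inj.comp (orbRep_injective.comp (Option.map_injective fun a a' e => (Prod.mk.inj e).1))
  have hset : O = Set.range f := by
    ext x
    rw [hO]
    constructor
    · rintro ⟨h1, h2⟩
      obtain ⟨k, hk, rfl⟩ := h1
      have hk1 : k ≠ 1 := fun e => by
        obtain ⟨g, hg⟩ := h2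
        rw [e, map_one, conj_eq_one_iff] at hg
        exact h.t_ne hg
      obtain ⟨_ | ⟨i', b''⟩, rfl⟩ := four_cases hk hk1
      · exact ⟨none, rfl⟩
      · refine ⟨some i', ?_⟩
        have : b'' = 1 - b := by
          by_contra e
          exact hne i' (fin_two_eq b'' b e ▸ h2)
        rw [this, ← hbb]
        rfl
    · rintro ⟨_ | i', rfl⟩
      · exact ⟨orb_mem_four _, h.image.symm ▸ Cls.self t⟩
      · exact ⟨orb_mem_four _, hrot i i' b' hib⟩
  rw [hset, Nat.card_congr (Equiv.ofInjective f hf).symm] at hodd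
  simp at hodd
  exact absurd hodd (by decide)

theorem Setup.cls_four (h : Setup t φ) {x : G} (hx : x ∈ four φ) (hx1 : x ≠ 1) : Cls t x := by
  obtain ⟨k, hk, rfl⟩ := hx
  obtain ⟨o, rfl⟩ := four_cases hk fun e => hx1 (by rw [e, map_one])
  exact h.cls_orb o

theorem Setup.exists_mover (h : Setup t φ) {x : G} (hx : x ∈ four φ) (hx1 : x ≠ 1) :
    ∃ n ∈ normalizer (four φ : Set G), n * t * n⁻¹ = x := h.fusion hx (h.cls_four hx hx1)

theorem Setup.cls_range (h : Setup t φ) {x : G} (hx : x ∈ φ.range) (hx2 : x * x = 1) (hx1 : x ≠ 1) : Cls t x := by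
  obtain ⟨k, rfl⟩ := hx
  obtain ⟨l, o, hl⟩ := inv_conj_four (h.inj (by rw [map_mul, map_one]; exact hx2) : k * k = 1)
    (fun e => hx1 (by rw [e, map_one]))
  have := (h.cls_orb o).conj (φ l)⁻¹
  rw [← hl, map_mul, map_mul, map_inv] at this
  rwa [show (φ l)⁻¹ * (φ l * φ k * (φ l)⁻¹) * (φ l)⁻¹⁻¹ = φ k by group] at this

/-- Conjugates of `t` in a 2-subgroup containing the Sylow subgroup of the weak closure lie in it. -/
theorem Setup.wc (h : Setup t φ) {R : Subgroup G} (hR : IsPGroup 2 R) (hle : four φ ≤ R) {x : G} (hx : x ∈ R)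
    (hc : Cls t x) : x ∈ four φ := by
  haveI : Fact (Nat.Prime 2) := ⟨Nat.prime_two⟩
  obtain ⟨S, hS, hSt⟩ := h.exists_sylow_four
  obtain ⟨T, hT⟩ := hR.exists_le_sylow
  obtain ⟨a, ha⟩ := MulAction.exists_smul_eq G S T
  have hT' : ∀ y ∈ (S : Subgroup G), a * y * a⁻¹ ∈ (T : Subgroup G) := fun y hy => by
    rw [← ha, Sylow.coe_subgroup_smul]
    exact Subgroup.mem_map.mpr ⟨y, hy, by simp⟩
  have haN := h.pull T.2 (hle.trans hT) fun y hy => hT' y (hS hy)
  have hxT := hT hx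
  rw [← ha, Sylow.coe_subgroup_smul] at hxT
  obtain ⟨y, hy, rfl⟩ := Subgroup.mem_map.mp hxT
  have : Cls t y := by
    have := hc.conj a⁻¹
    simpa [mul_assoc] using this
  exact (mem_normalizer_iff.mp haN y).mp (h.cls_sylow hS hSt hy this)

end CfsgLib.J1WeakClosure
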