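/-
The automiser of the Sylow subgroup of the weak closure has odd order.
-/
import Cfsg.Agent.Lib.J1WeakClosure.Fusion

set_option autoImplicit false
set_option linter.unusedSectionVars false

namespace CfsgLib.J1WeakClosure

open Subgroup CfsgLib.JankoOne

variable {G : Type*} [Group G] [Finite G] {t : G} {φ : K →* G}

/-- The non-trivial elements of the Sylow subgroup of the weak closure. -/
abbrev Pt (φ : K →* G) : Type _ := {x : G // x ∈ four φ ∧ x ≠ 1}

theorem Setup.card_pt (h : Setup t φ) : Nat.card (Pt φ) = 7 := by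
  rw [← Nat.card_congr (Equiv.ofBijective
    (fun o => (⟨φ (orbRep o), orb_mem_four o, fun e => orbRep_ne_one o (h.inj (e.trans (map_one φ).symm))⟩ : Pt φ))
    ⟨fun a b e => orbRep_injective (h.inj (congrArg Subtype.val e)), fun ⟨x, ⟨k, hk, hkx⟩, hx1⟩ => ?_⟩)]
  · simp
  · obtain ⟨o, rfl⟩ := four_cases hk fun e => hx1 (by rw [← hkx, e, map_one])
    exact ⟨o, Subtype.ext hkx⟩

/-- A member of the centraliser normalising the Sylow subgroup, in coordinates. -/
theorem Setup.auto_four (h : Setup t φ) {n : G} (hn : n ∈ normalizer (four φ : Set G)) (hnt : n * t = t * n)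
    (i : Fin 3) : ∃ j : Fin 3, n * φ (orbRep (some (i, 0))) * n⁻¹ = φ (orbRep (some (j, 0))) := by
  obtain ⟨f, hfi, hf⟩ := h.exists_auto hnt
  obtain ⟨k, hk, hkx⟩ := (mem_normalizer_iff.mp hn _).mp (orb_mem_four (φ := φ) (some (i, 0)))
  have hkf : k = f (orbRep (some (i, 0))) := h.inj (by rw [hf, hkx])
  obtain ⟨j, hj⟩ := four_alt hk (fun e => orbRep_ne_one (some (i, 0)) (hfi (by rw [← hkf, e, map_one]))) (by
    rw [hkf, orbRep_rot, orbRep_zero, Fin.val_zero, pow_zero, one_mul, ← v0_commutator, map_mul, map_mul, map_inv,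
      map_commutatorElement, commutatorElement_def]
    simp only [Prod.fst_mul, Prod.fst_inv]
    generalize (f (c0 ^ (i : ℕ))).1 = a, (f c0).1 = b, (f v1).1 = c
    rw [mul_comm a, mul_inv_cancel_right, mul_comm b, mul_inv_cancel_right, mul_inv_cancel])
  exact ⟨j, by rw [hj, hkx]⟩

/-- An element fixing the central involution and one of the alternating involutions centralises. -/
theorem Setup.fix_two (h : Setup t φ) {n : G} (hn : n ∈ normalizer (four φ : Set G)) (hnt : n * t = t * n)
    {i : Fin 3} (hi : n * φ (orbRep (some (i, 0))) = φ (orbRep (some (i, 0))) * n) :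
    n ∈ centralizer (four φ : Set G) := by
  classical
  set N := normalizer (four φ : Set G)
  let act : N →* Equiv.Perm (Pt φ) :=
    { toFun := fun m =>
        { toFun := fun x => ⟨m * x.1 * (m : G)⁻¹, (mem_normalizer_iff.mp m.2 _).mp x.2.1,
            fun e => x.2.2 (conj_eq_one_iff.mp e)⟩
          invFun := fun x => ⟨(m : G)⁻¹ * x.1 * m, (mem_normalizer_iff''.mp m.2 _).mp x.2.1,
            fun e => x.2.2 (conj_eq_one_iff.mp (show (m : G)⁻¹ * x.1 * (m : G)⁻¹⁻¹ = 1 by rw [inv_inv]; exact e))⟩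
          left_inv := fun x => Subtype.ext (by simp [mul_assoc])
          right_inv := fun x => Subtype.ext (by simp [mul_assoc]) }
      map_one' := Equiv.ext fun x => Subtype.ext (by simp)
      map_mul' := fun a b => Equiv.ext fun x => Subtype.ext (by simp [mul_assoc]) }
  set A := act.range
  have happ : ∀ (m : N) (x : Pt φ), ((act m x : Pt φ) : G) = m * x.1 * (m : G)⁻¹ := fun _ _ => rfl
  let pt : Option (Fin 3 × Fin 2) → Pt φ := fun o =>
    ⟨φ (orbRep o), orb_mem_four o, fun e => orbRep_ne_one o (h.inj (e.trans (map_one φ).symm))⟩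
  have hpt : Function.Injective pt := fun a b e => orbRep_injective (h.inj (congrArg Subtype.val e))
  set T := pt none
  have hT : T.1 = t := h.image
  -- the stabiliser has at most six elements
  have hstab : ∀ m : N, act m T = T → ∀ i, ∃ j, act m (pt (some (i, 0))) = pt (some (j, 0)) := by
    intro m hm i
    obtain ⟨j, hj⟩ := h.auto_four m.2 (mul_inv_eq_iff_eq_mul.mp (by
      have := congrArg Subtype.val hm
      rwa [happ, hT] at this)) i
    exact ⟨j, Subtype.ext hj⟩
  have hdet : ∀ m : N, act m T = T → act m (pt (some (0, 0))) = pt (some (0, 0)) →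
      act m (pt (some (1, 0))) = pt (some (1, 0)) → (m : G) ∈ centralizer (four φ : Set G) := by
    intro m h1 h2 h3
    have hc : ∀ x : Pt φ, act m x = x → x.1 ∈ centralizer ({(m : G)} : Set G) := fun x e => by
      have := congrArg Subtype.val e
      rw [happ] at this
      exact mem_centralizer_singleton_iff.mpr (mul_inv_eq_iff_eq_mul.mp this).symm
    have hle := four_le (φ := φ) (P := centralizer ({(m : G)} : Set G)) (hc T h1) 0 (hc _ h2) (hc _ h3)
    exact mem_centralizer_iff.mpr fun x hx => mem_centralizer_singleton_iff.mp (hle hx)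
  haveI : MulAction.IsPretransitive A (Pt φ) := ⟨fun x y => by
    obtain ⟨a, ha, hax⟩ := h.exists_mover x.2.1 x.2.2
    obtain ⟨b, hb, hby⟩ := h.exists_mover y.2.1 y.2.2
    refine ⟨⟨act ⟨b * a⁻¹, mul_mem hb (inv_mem ha)⟩, ⟨_, rfl⟩⟩, Subtype.ext ?_⟩
    show b * a⁻¹ * x.1 * (b * a⁻¹)⁻¹ = y.1
    rw [← hax, ← hby]
    group⟩
  have hA : Nat.card A ≤ 42 := by
    have h7 : (MulAction.stabilizer A T).index = 7 := by
      rw [MulAction.index_stabilizer_of_transitive, h.card_pt]
    rw [← Subgroup.card_mul_index (MulAction.stabilizer A T), h7]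
    refine le_trans (Nat.mul_le_mul_right 7 (m := 6) ?_) (by norm_num)
    have key : ∀ a : MulAction.stabilizer A T, ∃ j k : Fin 3, j ≠ k ∧
        (a : A).1 (pt (some (0, 0))) = pt (some (j, 0)) ∧ (a : A).1 (pt (some (1, 0))) = pt (some (k, 0)) := by
      rintro ⟨⟨_, m, rfl⟩, ha⟩
      obtain ⟨j, hj⟩ := hstab m ha 0
      obtain ⟨k, hk⟩ := hstab m ha 1
      refine ⟨j, k, fun e => ?_, hj, hk⟩
      have := (act m).injective (hj.trans (e ▸ hk.symm))
      simpa using hpt this
    choose j k hjk hj hk using key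
    refine (Nat.card_le_card_of_injective (fun a => (⟨(j a, k a), hjk a⟩ : {p : Fin 3 × Fin 3 // p.1 ≠ p.2}))
      fun a b e => ?_).trans ?_
    · obtain ⟨ej, ek⟩ := Prod.mk.inj (congrArg Subtype.val e)
      obtain ⟨⟨_, m, hm⟩, ha⟩ := a
      obtain ⟨⟨_, m', hm'⟩, hb⟩ := b
      subst hm hm'
      have e0 := (hj ⟨⟨_, m, rfl⟩, ha⟩).trans ((congrArg (fun j => pt (some (j, (0 : Fin 2)))) ej).trans
        (hj ⟨⟨_, m', rfl⟩, hb⟩).symm)
      have e1 := (hk ⟨⟨_, m, rfl⟩, ha⟩).trans ((congrArg (fun j => pt (some (j, (0 : Fin 2)))) ek).trans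
        (hk ⟨⟨_, m', rfl⟩, hb⟩).symm)
      have hc : ((m'⁻¹ * m : N) : G) ∈ centralizer (four φ : Set G) := by
        refine hdet _ ?_ ?_ ?_ <;> rw [map_mul, map_inv, Equiv.Perm.mul_apply, Equiv.Perm.inv_def, Equiv.symm_apply_eq]
        · exact (ha : act m T = T).trans (hb : act m' T = T).symm
        · exact e0
        · exact e1
      refine Subtype.ext (Subtype.ext (Equiv.ext fun x => ?_))
      have hx := mem_centralizer_iff.mp hc x.1 x.2.1
      have : act (m'⁻¹ * m) x = x := Subtype.ext (by rw [happ, ← hx, mul_inv_cancel_right])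
      rw [map_mul, map_inv, Equiv.Perm.mul_apply, Equiv.Perm.inv_def, Equiv.symm_apply_eq] at this
      exact this
    · rw [Nat.card_eq_fintype_card]
      decide
  -- an element of order seven
  haveI : Fact (Nat.Prime 7) := ⟨by norm_num⟩
  have hA7 : 7 ∣ Nat.card A := by
    rw [← h.card_pt, ← MulAction.index_stabilizer_of_transitive A T]
    exact Subgroup.index_dvd_card _
  obtain ⟨π, hπ⟩ := exists_prime_orderOf_dvd_card' 7 hA7
  set P := Subgroup.zpowers π
  have hP : Nat.card P = 7 := by rw [Nat.card_zpowers, hπ]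
  have hnormal : ∀ (a : A), ∀ p ∈ P, a * p * a⁻¹ ∈ P := by
    intro a
    by_contra hne
    set P' := P.map (MulAut.conj a).toMonoidHom
    have hP' : Nat.card P' = 7 := by
      rw [Subgroup.card_map_of_injective (MulAut.conj a).injective, hP]
    have hbot : P' ⊓ P = ⊥ := by
      haveI : Fact (Nat.card P').Prime := ⟨by rw [hP']; norm_num⟩
      rcases (P.subgroupOf P').eq_bot_or_eq_top_of_prime_card with e | e
      · rw [Subgroup.subgroupOf_eq_bot, disjoint_comm, disjoint_iff] at e
        exact e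
      · exact absurd (fun p hp => Subgroup.subgroupOf_eq_top.mp e ⟨p, hp, rfl⟩) hne
    have := Nat.card_le_card_of_injective (fun x : P' × P => ((x.1 : A) * (x.2 : A))) fun x y e => by
      have h1 : (y.1 : A)⁻¹ * x.1 ∈ P' ⊓ P := Subgroup.mem_inf.mpr ⟨mul_mem (inv_mem y.1.2) x.1.2, by
        rw [show (y.1 : A)⁻¹ * x.1 = (y.2 : A) * (x.2 : A)⁻¹ by
          have e' : ((x.1 : A) * (x.2 : A)) = y.1 * y.2 := e
          calc (y.1 : A)⁻¹ * x.1 = (y.1 : A)⁻¹ * (((x.1 : A) * (x.2 : A))) * (x.2 : A)⁻¹ := by group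
            _ = _ := by rw [e']; group]
        exact mul_mem y.2.2 (inv_mem x.2.2)⟩
      rw [hbot, Subgroup.mem_bot, inv_mul_eq_one] at h1
      have h2 : (x.2 : A) = y.2 := by simpa [h1] using e
      exact Prod.ext (Subtype.ext h1.symm) (Subtype.ext h2)
    rw [Nat.card_prod, hP', hP] at this
    omega
  -- it is transitive
  have htrans : ∀ x : Pt φ, ∃ p ∈ P, p • T = x := by
    have horb : ∀ y : Pt φ, MulAction.orbit P y = {y} ∨ MulAction.orbit P y = Set.univ := by
      intro y
      have hd : Nat.card (MulAction.orbit P y) ∣ 7 := by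
        rw [Nat.card_congr (MulAction.orbitEquivQuotientStabilizer P y), ← Subgroup.index_eq_card, ← hP]
        exact Subgroup.index_dvd_card _
      rcases (Nat.dvd_prime (by norm_num)).mp hd with e | e
      · left
        obtain ⟨z, hz⟩ := Set.ncard_eq_one.mp (by rw [← Nat.card_coe_set_eq]; exact e)
        rw [hz, Set.singleton_eq_singleton_iff]
        have := MulAction.mem_orbit_self (M := P) y
        rw [hz] at this
        exact this.symm
      · right
        refine Set.eq_univ_of_forall fun z => ?_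
        have := Set.eq_univ_iff_ncard (MulAction.orbit P y)
        exact this.mpr (by rw [← Nat.card_coe_set_eq, e, h.card_pt]) ▸ Set.mem_univ z
    obtain ⟨y, hy⟩ : ∃ y : Pt φ, π • y ≠ y := by
      by_contra hc
      push Not at hc
      have : π = 1 := Subtype.ext (Equiv.ext hc)
      rw [this, orderOf_one] at hπ
      norm_num at hπ
    have hu : MulAction.orbit P y = Set.univ := (horb y).resolve_left fun e => hy (by
      have : (⟨π, Subgroup.mem_zpowers π⟩ : P) • y ∈ MulAction.orbit P y := MulAction.mem_orbit _ _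
      rw [e] at this
      exact this)
    intro x
    obtain ⟨p, hp⟩ : x ∈ MulAction.orbit P y := hu ▸ Set.mem_univ x
    obtain ⟨q, hq⟩ : T ∈ MulAction.orbit P y := hu ▸ Set.mem_univ T
    refine ⟨p * q⁻¹, mul_mem p.2 (inv_mem q.2), ?_⟩
    rw [← hq, ← hp]
    show ((p : A) * (q : A)⁻¹) • ((q : A) • y) = (p : A) • y
    rw [mul_smul, inv_smul_smul]
  -- a second fixed point forces triviality
  set τ : A := ⟨act ⟨n, hn⟩, ⟨_, rfl⟩⟩
  have hτT : τ • T = T := Subtype.ext (show n * T.1 * n⁻¹ = T.1 by rw [hT, hnt, mul_inv_cancel_right])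
  have hτe : τ • pt (some (i, 0)) = pt (some (i, 0)) :=
    Subtype.ext (show n * φ (orbRep (some (i, 0))) * n⁻¹ = _ by rw [hi, mul_inv_cancel_right])
  obtain ⟨p, hp, hpT⟩ := htrans (pt (some (i, 0)))
  have hp1 : p ≠ 1 := fun e => by
    rw [e, one_smul] at hpT
    simpa using hpt hpT
  set q := p⁻¹ * (τ * p * τ⁻¹)
  have hqP : q ∈ P := mul_mem (inv_mem hp) (hnormal τ p hp)
  have hqT : q • T = T := by
    rw [mul_smul, mul_smul, mul_smul, show τ⁻¹ • T = T from inv_smul_eq_iff.mpr hτT.symm, hpT, hτe, ← hpT,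
      inv_smul_smul]
  have hall : ∀ (r : A), r • T = T → (∀ x ∈ P, r * x = x * r) → r = 1 := by
    intro r hr hcomm
    refine Subtype.ext (Equiv.ext fun x => ?_)
    obtain ⟨s, hs, rfl⟩ := htrans x
    show r • s • T = s • T
    rw [← mul_smul, hcomm s hs, mul_smul, hr]
  have hq1 : q = 1 := hall q hqT fun x hx => by
    obtain ⟨a, rfl⟩ := Subgroup.mem_zpowers_iff.mp hx
    obtain ⟨b, hb⟩ := Subgroup.mem_zpowers_iff.mp hqP
    rw [← hb, ← zpow_add, ← zpow_add, add_comm]
  have hcomm : τ * p = p * τ := by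
    have : p = τ * p * τ⁻¹ := inv_mul_eq_one.mp hq1
    calc τ * p = τ * p * τ⁻¹ * τ := by group
      _ = p * τ := by rw [← this]
  have hτ1 : τ = 1 := hall τ hτT fun x hx => by
    have hgen : P ≤ Subgroup.centralizer ({τ} : Set A) := by
      haveI : Fact (Nat.card P).Prime := ⟨by rw [hP]; norm_num⟩
      rcases ((Subgroup.centralizer ({τ} : Set A)).subgroupOf P).eq_bot_or_eq_top_of_prime_card with e | e
      · exfalso
        have : (⟨p, hp⟩ : P) ∈ (Subgroup.centralizer ({τ} : Set A)).subgroupOf P := by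
          rw [Subgroup.mem_subgroupOf, mem_centralizer_singleton_iff]
          exact hcomm.symm
        rw [e, Subgroup.mem_bot] at this
        exact hp1 (congrArg Subtype.val this)
      · exact Subgroup.subgroupOf_eq_top.mp e
    exact (mem_centralizer_singleton_iff.mp (hgen hx)).symm
  refine mem_centralizer_iff.mpr fun x hx => ?_
  rcases eq_or_ne x 1 with rfl | hx1
  · simp
  have e1 : (τ : Equiv.Perm (Pt φ)) ⟨x, hx, hx1⟩ = ⟨x, hx, hx1⟩ := by rw [hτ1]; rfl
  exact (mul_inv_eq_iff_eq_mul.mp (congrArg Subtype.val e1 : n * x * n⁻¹ = x)).symm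

/-- 2-subgroups containing the Sylow subgroup of the weak closure centralise it. -/
theorem Setup.le_centralizer (h : Setup t φ) {R : Subgroup G} (hR : IsPGroup 2 R) (hle : four φ ≤ R) :
    R ≤ centralizer (four φ : Set G) := by
  haveI : Fact (Nat.Prime 2) := ⟨Nat.prime_two⟩
  suffices hS : ∃ S : Sylow 2 G, four φ ≤ (S : Subgroup G) ∧ (S : Subgroup G) ≤ centralizer (four φ : Set G) by
    obtain ⟨S, hSE, hSC⟩ := hS
    obtain ⟨T, hT⟩ := hR.exists_le_sylow
    obtain ⟨a, ha⟩ := MulAction.exists_smul_eq G S T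
    have hT' : ∀ y ∈ (S : Subgroup G), a * y * a⁻¹ ∈ (T : Subgroup G) := fun y hy => by
      rw [← ha, Sylow.coe_subgroup_smul]
      exact Subgroup.mem_map.mpr ⟨y, hy, by simp⟩
    have haN := h.pull T.2 (hle.trans hT) fun y hy => hT' y (hSE hy)
    intro r hr
    have hrT := hT hr
    rw [← ha, Sylow.coe_subgroup_smul] at hrT
    obtain ⟨y, hy, rfl⟩ := Subgroup.mem_map.mp hrT
    refine mem_centralizer_iff.mpr fun x hx => ?_
    have := mem_centralizer_iff.mp (hSC hy) _ ((mem_normalizer_iff''.mp haN x).mp hx)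
    show x * (a * y * a⁻¹) = a * y * a⁻¹ * x
    calc x * (a * y * a⁻¹) = a * (a⁻¹ * x * a * y) * a⁻¹ := by group
      _ = _ := by rw [this]; group
  obtain ⟨S, hS, hSt⟩ := h.exists_sylow_four
  refine ⟨S, hS, fun x hx => ?_⟩
  have hxN : x ∈ normalizer (four φ : Set G) := conj_four_of_le fun y hy => by
    obtain ⟨k, -, rfl⟩ := id hy
    exact h.inter_four S.2 hS (mul_mem (mul_mem hx (hS hy)) (inv_mem hx)) (h.range_normal (hSt x hx) ⟨k, rfl⟩)
  choose f hf using h.auto_four hxN (hSt x hx)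
  have hfi : Function.Injective f := fun a b e => by
    have h1 := (hf a).trans ((congrArg (fun j => φ (orbRep (some (j, (0 : Fin 2))))) e).trans (hf b).symm)
    rw [mul_left_inj, mul_right_inj] at h1
    simpa using orbRep_injective (h.inj h1)
  rcases fin_three f hfi with ⟨i, hi⟩ | h3
  · refine h.fix_two hxN (hSt x hx) (i := i) ?_
    have := hf i
    rw [hi] at this
    exact mul_inv_eq_iff_eq_mul.mp this
  have hx3 : x ^ 3 ∈ centralizer (four φ : Set G) := by
    refine h.fix_two (pow_mem hxN 3) ((Commute.pow_left (hSt x hx : Commute x t) 3).eq) (i := 0) ?_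
    refine mul_inv_eq_iff_eq_mul.mp ?_
    calc x ^ 3 * φ (orbRep (some (0, 0))) * (x ^ 3)⁻¹
        = x * (x * (x * φ (orbRep (some (0, 0))) * x⁻¹) * x⁻¹) * x⁻¹ := by
          simp [pow_succ, mul_assoc]
      _ = _ := by rw [hf, hf, hf, h3]
  obtain ⟨m, hm⟩ := S.2 ⟨x, hx⟩
  have hxm : x ^ 2 ^ m = 1 := congrArg Subtype.val hm
  have h1 : x ^ Nat.gcd 3 (2 ^ m) ∈ centralizer (four φ : Set G) := by
    rw [← zpow_natCast, Nat.gcd_eq_gcd_ab, zpow_add, zpow_mul, zpow_mul, zpow_natCast, zpow_natCast, hxm, one_zpow,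
      mul_one]
    exact zpow_mem hx3 _
  rwa [show Nat.gcd 3 (2 ^ m) = 1 from Nat.Coprime.pow_right m (by norm_num : Nat.Coprime 3 2), pow_one] at h1

/-- Elements of the centraliser normalising the Sylow subgroup. -/
theorem Setup.local_decomp (h : Setup t φ) {n : G} (hn : n ∈ normalizer (four φ : Set G)) (hnt : n * t = t * n) :
    ∃ j : ℕ, φ (c0 ^ j) ∈ normalizer (four φ : Set G) ∧ (φ (c0 ^ j))⁻¹ * n ∈ centralizer (four φ : Set G) := by
  obtain ⟨j, hj⟩ := h.auto_four hn hnt 0
  have hc : φ (c0 ^ (j : ℕ)) ∈ normalizer (four φ : Set G) := by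
    rw [map_pow]
    refine pow_mem (conj_four_of_le fun x hx => ?_) _
    obtain ⟨k, hk, rfl⟩ := hx
    exact ⟨c0 * k * c0⁻¹, c0_four k hk, by simp⟩
  refine ⟨j, hc, h.fix_two (mul_mem (inv_mem hc) hn) ?_ (i := 0) ?_⟩
  · rw [mul_assoc, hnt, ← mul_assoc, show (φ (c0 ^ (j : ℕ)))⁻¹ * t = t * (φ (c0 ^ (j : ℕ)))⁻¹ from
      (Commute.inv_left (h.range_comm (c0 ^ (j : ℕ)) : Commute _ t)).eq, mul_assoc]
  · rw [orbRep_rot j, map_mul, map_mul, map_inv, mul_inv_eq_iff_eq_mul] at hj
    rw [mul_assoc, inv_mul_eq_iff_eq_mul, hj]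
    group

end CfsgLib.J1WeakClosure
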