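/-
The centraliser of the Sylow subgroup of the weak closure splits off that subgroup.
-/
import Cfsg.Agent.Lib.J1WeakClosure.Action

set_option autoImplicit false
set_option linter.unusedSectionVars false

namespace CfsgLib.J1WeakClosure

open Subgroup CfsgLib.JankoOne

variable {G : Type*} [Group G] [Finite G] {t : G} {φ : K →* G}

/-- The elements centralising all weak closures attached to the Sylow subgroup. -/
def kerW (φ : K →* G) : Subgroup G where
  carrier := {c | ∀ n ∈ normalizer (four φ : Set G), ∀ k, c * (n * φ k * n⁻¹) = n * φ k * n⁻¹ * c}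
  one_mem' := fun _ _ _ => by simp
  mul_mem' := fun {a b} ha hb n hn k => by rw [mul_assoc, hb n hn k, ← mul_assoc, ha n hn k, mul_assoc]
  inv_mem' := fun {a} ha n hn k => ((show Commute a _ from ha n hn k).inv_left).eq

theorem Setup.kerW_le (h : Setup t φ) : kerW φ ≤ centralizer (four φ : Set G) := fun c hc => by
  refine mem_centralizer_iff.mpr ?_
  rintro _ ⟨k, -, rfl⟩
  have := hc 1 (one_mem _) k
  simpa using this.symm

theorem kerW_conj {c n : G} (hc : c ∈ kerW φ) (hn : n ∈ normalizer (four φ : Set G)) : n * c * n⁻¹ ∈ kerW φ := by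
  intro m hm k
  have := hc (n⁻¹ * m) (mul_mem (inv_mem hn) hm) k
  calc n * c * n⁻¹ * (m * φ k * m⁻¹) = n * (c * (n⁻¹ * m * φ k * (n⁻¹ * m)⁻¹)) * n⁻¹ := by group
    _ = _ := by rw [this]; group

theorem cent_t (h : Setup t φ) {c : G} (hc : c ∈ centralizer (four φ : Set G)) : c * t = t * c :=
  (mem_centralizer_iff.mp hc t h.t_mem).symm

theorem Setup.eq_four_of_range (h : Setup t φ) {x : G} (hx : x ∈ φ.range) (hc : x ∈ centralizer (four φ : Set G)) :
    x ∈ four φ := by
  obtain ⟨k, rfl⟩ := hx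
  refine ⟨k, fourCent_eq_centralizer fun l hl => h.inj ?_, rfl⟩
  rw [map_mul, map_mul]
  exact (mem_centralizer_iff.mp hc (φ l) ⟨l, hl, rfl⟩).symm

theorem Setup.kerW_of_rot (h : Setup t φ) {c : G} (hc : c ∈ centralizer (four φ : Set G))
    (hr : ∀ n ∈ normalizer (four φ : Set G), c * (n * φ c0 * n⁻¹) = n * φ c0 * n⁻¹ * c) : c ∈ kerW φ := by
  intro n hn k
  set d := n⁻¹ * c * n
  have hd : d ∈ centralizer (four φ : Set G) := mem_centralizer_iff.mpr fun x hx => by
    have := mem_centralizer_iff.mp hc _ ((mem_normalizer_iff.mp hn x).mp hx)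
    calc x * d = n⁻¹ * (n * x * n⁻¹ * c) * n := by simp only [d]; group
      _ = _ := by rw [this]; simp only [d]; group
  obtain ⟨f, hfi, hf⟩ := h.exists_auto (cent_t h hd)
  have hfix := rigid f hfi (fun l hl => h.inj (by
      rw [hf, ← mem_centralizer_iff.mp hd (φ l) ⟨l, hl, rfl⟩, mul_inv_cancel_right]))
    (h.inj (by
      rw [hf]
      calc d * φ c0 * d⁻¹ = n⁻¹ * (c * (n * φ c0 * n⁻¹)) * n * d⁻¹ := by simp only [d]; group
        _ = φ c0 := by rw [hr n hn]; simp only [d]; group)) k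
  have hk : d * φ k = φ k * d := by
    have := hf k
    rw [hfix] at this
    exact mul_inv_eq_iff_eq_mul.mp this.symm
  calc c * (n * φ k * n⁻¹) = n * (d * φ k) * n⁻¹ := by simp only [d]; group
    _ = _ := by rw [hk]; simp only [d]; group

theorem Setup.c0_normalizer (h : Setup t φ) : φ c0 ∈ normalizer (four φ : Set G) :=
  conj_four_of_le fun x hx => by
    obtain ⟨k, hk, rfl⟩ := hx
    exact ⟨c0 * k * c0⁻¹, c0_four k hk, by simp⟩

/-- Commutators of the centraliser with the rotations lie in the four group part. -/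
theorem Setup.rot_comm (h : Setup t φ) {n c : G} (hn : n ∈ normalizer (four φ : Set G))
    (hc : c ∈ centralizer (four φ : Set G)) :
    n * φ c0 * n⁻¹ * c * (n * φ c0 * n⁻¹)⁻¹ * c⁻¹ ∈ four φ := by
  have key : ∀ d ∈ centralizer (four φ : Set G), φ c0 * d * (φ c0)⁻¹ * d⁻¹ ∈ four φ := by
    intro d hd
    refine h.eq_four_of_range ?_ ?_
    · rw [show φ c0 * d * (φ c0)⁻¹ * d⁻¹ = φ c0 * (d * (φ c0)⁻¹ * d⁻¹) by group]
      exact mul_mem ⟨c0, rfl⟩ (h.range_normal (cent_t h hd) ⟨c0⁻¹, map_inv _ _⟩)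
    · refine mul_mem ?_ (inv_mem hd)
      refine mem_centralizer_iff.mpr fun x hx => ?_
      have := mem_centralizer_iff.mp hd _ ((mem_normalizer_iff''.mp h.c0_normalizer x).mp hx)
      calc x * (φ c0 * d * (φ c0)⁻¹) = φ c0 * ((φ c0)⁻¹ * x * φ c0 * d) * (φ c0)⁻¹ := by group
        _ = _ := by rw [this]; group
  have hd : n⁻¹ * c * n ∈ centralizer (four φ : Set G) := mem_centralizer_iff.mpr fun x hx => by
    have := mem_centralizer_iff.mp hc _ ((mem_normalizer_iff.mp hn x).mp hx)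
    calc x * (n⁻¹ * c * n) = n⁻¹ * (n * x * n⁻¹ * c) * n := by group
      _ = _ := by rw [this]; group
  have := (mem_normalizer_iff.mp hn _).mp (key _ hd)
  rw [show n * φ c0 * n⁻¹ * c * (n * φ c0 * n⁻¹)⁻¹ * c⁻¹ =
    n * (φ c0 * (n⁻¹ * c * n) * (φ c0)⁻¹ * (n⁻¹ * c * n)⁻¹) * n⁻¹ by group]
  exact this

theorem four_sq {x : G} (hx : x ∈ four φ) : x * x = 1 := by
  obtain ⟨k, hk, rfl⟩ := hx
  rw [← map_mul, fourCent_sq hk, map_one]

theorem Setup.sq_mem (h : Setup t φ) {c : G} (hc : c ∈ centralizer (four φ : Set G)) : c * c ∈ kerW φ := by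
  refine h.kerW_of_rot (mul_mem hc hc) fun n hn => ?_
  obtain ⟨e, he, h1⟩ : ∃ e ∈ four φ, n * φ c0 * n⁻¹ * c * (n * φ c0 * n⁻¹)⁻¹ = e * c :=
    ⟨_, h.rot_comm hn hc, by group⟩
  generalize n * φ c0 * n⁻¹ = r at h1 ⊢
  have h2 : c * e = e * c := (mem_centralizer_iff.mp hc e he).symm
  have : r * (c * c) * r⁻¹ = c * c := by
    rw [← conj_mul, h1, mul_assoc, ← mul_assoc c e, h2, mul_assoc, ← mul_assoc e e, four_sq he, one_mul]
  exact (mul_inv_eq_iff_eq_mul.mp this).symm

theorem Setup.disjoint (h : Setup t φ) {x : G} (hx : x ∈ four φ) (hk : x ∈ kerW φ) : x = 1 := by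
  by_contra hx1
  have key : ∀ n ∈ normalizer (four φ : Set G), n * t * n⁻¹ = x := by
    intro n hn
    obtain ⟨k, hk', hkx⟩ := (mem_normalizer_iff''.mp hn x).mp hx
    have hcomm : c0 * k = k * c0 := h.inj (by
      rw [map_mul, map_mul, hkx]
      have := hk n hn c0
      calc φ c0 * (n⁻¹ * x * n) = n⁻¹ * (n * φ c0 * n⁻¹ * x) * n := by group
        _ = _ := by rw [← this]; group)
    rcases c0_fix hk' hcomm with rfl | rfl
    · refine absurd ?_ hx1
      rw [map_one] at hkx
      calc x = n * (n⁻¹ * x * n) * n⁻¹ := by group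
        _ = 1 := by rw [← hkx]; group
    · rw [← h.image, hkx]; group
  have hxt : x = t := by rw [← key 1 (one_mem _)]; group
  obtain ⟨n, hn, hnt⟩ := h.exists_mover (orb_mem_four (φ := φ) (some (0, 0)))
    (fun e => orbRep_ne_one _ (h.inj (e.trans (map_one φ).symm)))
  have := key n hn
  rw [hnt, hxt, ← h.image] at this
  simpa using orbRep_injective (a₁ := some (0, 0)) (a₂ := none) (h.inj this)

theorem Setup.comm_mem (h : Setup t φ) {x c : G} (hx : x ∈ centralizer (four φ : Set G))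
    (hc : c ∈ centralizer (four φ : Set G)) : x * c * x⁻¹ * c⁻¹ ∈ kerW φ := by
  have hn : ∀ {a : G}, a ∈ centralizer (four φ : Set G) → a ∈ normalizer (four φ : Set G) := fun {a} ha =>
    conj_four_of_le fun y hy => by rwa [← mem_centralizer_iff.mp ha y hy, mul_inv_cancel_right]
  rw [show x * c * x⁻¹ * c⁻¹ = x * c * (x * c) * (c⁻¹ * (x * x)⁻¹ * c) * (c * c)⁻¹ by group]
  refine mul_mem (mul_mem (h.sq_mem (mul_mem hx hc)) ?_) (inv_mem (h.sq_mem hc))
  have := kerW_conj (inv_mem (h.sq_mem hx)) (inv_mem (hn hc))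
  rwa [inv_inv] at this

/-- The centraliser of the Sylow subgroup is that subgroup times the common kernel. -/
theorem Setup.split (h : Setup t φ) {c : G} (hc : c ∈ centralizer (four φ : Set G)) :
    ∃ e ∈ four φ, ∃ q ∈ kerW φ, c = e * q := by
  classical
  haveI : Fact (Nat.Prime 2) := ⟨Nat.prime_two⟩
  set C := centralizer (four φ : Set G) with hC
  set N := normalizer (four φ : Set G) with hN
  have hCN : C ≤ N := fun a ha => conj_four_of_le fun y hy => by
    rwa [← mem_centralizer_iff.mp ha y hy, mul_inv_cancel_right]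
  haveI : (C.subgroupOf N).Normal := ⟨fun a ha m => mem_centralizer_iff.mpr fun y hy => by
    have := mem_centralizer_iff.mp (mem_subgroupOf.mp ha) _ ((mem_normalizer_iff''.mp m.2 y).mp hy)
    show y * ((m : G) * a * (m : G)⁻¹) = (m : G) * a * (m : G)⁻¹ * y
    calc y * ((m : G) * a * (m : G)⁻¹) = m * ((m : G)⁻¹ * y * m * a) * (m : G)⁻¹ := by group
      _ = _ := by rw [this]; group⟩
  have hodd : ¬ 2 ∣ (C.subgroupOf N).index := by
    obtain ⟨S, hS, -⟩ := h.exists_sylow_four
    exact fun hd => S.not_dvd_index (hd.trans ((Subgroup.index_dvd_of_le (fun x hx =>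
      h.le_centralizer S.2 hS (mem_subgroupOf.mp hx) : (S : Subgroup G).subgroupOf N ≤ C.subgroupOf N)).trans
      (Dvd.intro _ (Subgroup.relIndex_mul_index ((h.le_centralizer S.2 hS).trans hCN)))))
  let δ : N → G := fun x => (x : G) * c * (x : G)⁻¹ * c⁻¹
  let R : Subgroup N :=
    { carrier := {x | δ x ∈ four φ}
      one_mem' := by simp [δ, one_mem]
      mul_mem' := fun {a b} ha hb => by
        show ((a : G) * b) * c * ((a : G) * b)⁻¹ * c⁻¹ ∈ four φ
        rw [show ((a : G) * b) * c * ((a : G) * b)⁻¹ * c⁻¹ =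
          ((a : G) * δ b * (a : G)⁻¹) * δ a by simp only [δ]; group]
        exact mul_mem ((mem_normalizer_iff.mp a.2 _).mp hb) ha
      inv_mem' := fun {a} ha => by
        show (a : G)⁻¹ * c * (a : G)⁻¹⁻¹ * c⁻¹ ∈ four φ
        rw [show (a : G)⁻¹ * c * (a : G)⁻¹⁻¹ * c⁻¹ = (a : G)⁻¹ * (δ a)⁻¹ * a by simp only [δ]; group]
        exact (mem_normalizer_iff''.mp a.2 _).mp (inv_mem ha) }
  set R₀ := (C.subgroupOf N).subgroupOf R
  letI : CommGroup (four φ) :=
    { (inferInstance : Group (four φ)) with mul_comm := fun a b => Subtype.ext (four_comm a.2 b.2) }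
  let d : R → four φ := fun x => ⟨δ x, x.2⟩
  let θ : R → four φ → four φ := fun x a => ⟨(x : G) * a * (x : G)⁻¹, (mem_normalizer_iff.mp x.1.2 _).mp a.2⟩
  have hd : ∀ x y : R, d (x * y) = θ x (d y) * d x := fun x y => Subtype.ext (by
    simp only [d, θ, δ, Subgroup.coe_mul]
    group)
  have h0 : ∀ x ∈ R₀, d x = 1 := fun x hx => Subtype.ext (h.disjoint (d x).2 (h.comm_mem hx hc))
  have hwell : ∀ x y : R, x⁻¹ * y ∈ R₀ → d x = d y := fun x y hxy => by
    have e := hd x (x⁻¹ * y)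
    rw [mul_inv_cancel_left, h0 _ hxy] at e
    rw [e]
    exact Subtype.ext (by simp [θ])
  haveI : Fintype (R ⧸ R₀) := Fintype.ofFinite _
  let dbar : R ⧸ R₀ → four φ := Quotient.lift d fun a b hab => hwell a b (QuotientGroup.leftRel_apply.mp hab)
  let e : four φ := ∏ q : R ⧸ R₀, dbar q
  have hm : Odd (Fintype.card (R ⧸ R₀)) := by
    rw [Fintype.card_eq_nat_card, ← Subgroup.index_eq_card, Nat.odd_iff, ← Nat.two_dvd_ne_zero]
    exact fun hd2 => hodd (hd2.trans (Subgroup.relIndex_dvd_index_of_normal _ _))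
  have hpow : ∀ a : four φ, a ^ Fintype.card (R ⧸ R₀) = a := fun a => by
    obtain ⟨j, hj⟩ := hm
    rw [hj, pow_succ, pow_mul, show a ^ 2 = 1 from Subtype.ext (by rw [sq]; exact four_sq a.2), one_pow, one_mul]
  have he : ∀ x : R, e = θ x e * d x := by
    intro x
    let θh : four φ →* four φ := MonoidHom.mk' (θ x) fun a b => Subtype.ext (by simp [θ])
    calc e = ∏ q : R ⧸ R₀, dbar (x • q) :=
        (Equiv.prod_comp (MulAction.toPerm x : Equiv.Perm (R ⧸ R₀)) dbar).symm
      _ = ∏ q : R ⧸ R₀, θ x (dbar q) * d x := Finset.prod_congr rfl fun q _ => by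
          induction q using QuotientGroup.induction_on with
          | H y => exact hd x y
      _ = θ x e * d x := by
          rw [Finset.prod_mul_distrib, Finset.prod_const, Finset.card_univ, hpow]
          exact congrArg (· * d x) (map_prod θh dbar Finset.univ).symm
  refine ⟨e, e.2, (e : G)⁻¹ * c, ?_, by group⟩
  refine h.kerW_of_rot (mul_mem (inv_mem (mem_centralizer_iff.mpr fun y hy => four_comm hy e.2)) hc) fun n hn => ?_
  set r := n * φ c0 * n⁻¹ with hr
  have hrN : r ∈ N := mul_mem (mul_mem hn h.c0_normalizer) (inv_mem hn)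
  have hrR : (⟨r, hrN⟩ : N) ∈ R := h.rot_comm hn hc
  have := congrArg Subtype.val (he ⟨⟨r, hrN⟩, hrR⟩)
  simp only [θ, d, δ, Subgroup.coe_mul] at this
  have key : r * ((e : G)⁻¹ * c) * r⁻¹ = (e : G)⁻¹ * c := by
    have hi : (e : G)⁻¹ = e := inv_eq_of_mul_eq_one_right (four_sq e.2)
    rw [hi]
    calc r * ((e : G) * c) * r⁻¹ = r * (e : G) * r⁻¹ * (r * c * r⁻¹ * c⁻¹) * c := by group
      _ = (e : G) * c := by rw [← this]
  exact (mul_inv_eq_iff_eq_mul.mp key).symm

/-- The centraliser of the involution. -/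
theorem Setup.centralizer_decomp (h : Setup t φ) {c : G} (hc : c * t = t * c) :
    ∃ k, ∃ q ∈ kerW φ, c = φ k * q := by
  haveI : Fact (Nat.Prime 2) := ⟨Nat.prime_two⟩
  obtain ⟨f, hfi, hf⟩ := h.exists_auto hc
  have h8 : Nat.card fourCent = 2 ^ (Nat.card K).factorization 2 := by
    rw [card_fourCent, Nat.card_eq_fintype_card, card_K,
      show (120 : ℕ) = 2 ^ 3 * 15 from rfl, Nat.factorization_mul (by norm_num) (by norm_num),
      Finsupp.add_apply, Nat.factorization_pow, Finsupp.smul_apply, Nat.prime_two.factorization_self,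
      Nat.factorization_eq_zero_of_not_dvd (show ¬ 2 ∣ 15 by norm_num)]
    norm_num
  let P := Sylow.ofCard fourCent h8
  let P' := Sylow.ofCard (fourCent.map f) (by rw [Subgroup.card_map_of_injective hfi, h8])
  obtain ⟨l, hl⟩ := MulAction.exists_smul_eq K P' P
  have hnN : φ l * c ∈ normalizer (four φ : Set G) := conj_four_of_le fun x hx => by
    obtain ⟨k, hk, rfl⟩ := hx
    refine ⟨l * f k * l⁻¹, ?_, by rw [map_mul, map_mul, map_inv, hf]; group⟩
    have : l * f k * l⁻¹ ∈ (P : Subgroup K) := by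
      rw [← hl, Sylow.coe_subgroup_smul]
      exact Subgroup.mem_map.mpr ⟨f k, ⟨k, hk, rfl⟩, by simp⟩
    exact this
  have hnt : φ l * c * t = t * (φ l * c) := by rw [mul_assoc, hc, ← mul_assoc, h.range_comm, mul_assoc]
  obtain ⟨j, -, hj⟩ := h.local_decomp hnN hnt
  obtain ⟨_, ⟨a, -, rfl⟩, q, hq, hcq⟩ := h.split hj
  refine ⟨l⁻¹ * c0 ^ j * a, q, hq, ?_⟩
  rw [map_mul, map_mul, map_inv, mul_assoc, ← hcq]
  group

end CfsgLib.J1WeakClosure
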