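/-
Subgroups inheriting the hypotheses.
-/
import Cfsg.Agent.Lib.J1WeakClosure.Split
import Cfsg.Agent.Lib.J1WeakClosure.Facts

set_option autoImplicit false
set_option linter.unusedSectionVars false

namespace CfsgLib.J1WeakClosure

open Subgroup CfsgLib.JankoOne

universe u

/-- The statement for all groups of smaller order. -/
def Small (G : Type u) [Group G] : Prop :=
  ∀ (G' : Type u) [Group G'] [Finite G'], Nat.card G' < Nat.card G → ∀ (t' : G') (φ' : K →* G'),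
    Setup t' φ' → Nonempty (↥(Subgroup.normalClosure ({t'} : Set G')) ≃* ↥Cfsg.Spor.J1)

variable {G : Type u} [Group G] [Finite G] {t : G} {φ : K →* G}

/-- A subgroup containing the weak closure and moving `t` inside its Sylow subgroup. -/
structure Mov (t : G) (φ : K →* G) (X : Subgroup G) : Prop where
  le : φ.range ≤ X
  move : ∃ x ∈ X, x * t * x⁻¹ ∈ four φ ∧ x * t * x⁻¹ ≠ t

/-- The corestriction of the parametrisation. -/
def res (φ : K →* G) {X : Subgroup G} (hle : φ.range ≤ X) : K →* X := φ.codRestrict X fun k => hle ⟨k, rfl⟩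

theorem four_res (φ : K →* G) {X : Subgroup G} (hle : φ.range ≤ X) :
    (four (res φ hle)).map X.subtype = four φ := by
  rw [four, four, Subgroup.map_map]; rfl

theorem Mov.four_le {X : Subgroup G} (hX : Mov t φ X) : four φ ≤ X := fun _ ⟨k, _, hk⟩ => hX.le ⟨k, hk⟩

theorem Setup.t_memX (h : Setup t φ) {X : Subgroup G} (hX : Mov t φ X) : t ∈ X := hX.four_le h.t_mem

theorem conj_facts {M : Type*} [Group M] {m g u : M} (hc : m * u = u * m) (hy : g * u * g⁻¹ * u = u * (g * u * g⁻¹)) :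
    m * (g * u * g⁻¹) * m⁻¹ = m * g * u * (m * g)⁻¹ ∧
      m * (g * u * g⁻¹) * m⁻¹ * u = u * (m * (g * u * g⁻¹) * m⁻¹) := by
  refine ⟨by group, ?_⟩
  calc m * (g * u * g⁻¹) * m⁻¹ * u = m * (g * u * g⁻¹) * (m⁻¹ * u) := by group
    _ = m * (g * u * g⁻¹ * u) * m⁻¹ := by
      rw [show m⁻¹ * u = u * m⁻¹ from (Commute.inv_left (hc : Commute m u)).eq]; group
    _ = m * u * (g * u * g⁻¹) * m⁻¹ := by rw [hy]; group
    _ = _ := by rw [hc]; group

theorem Setup.sub (h : Setup t φ) {X : Subgroup G} (hX : Mov t φ X) :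
    Setup (⟨t, h.t_memX hX⟩ : X) (res φ hX.le) := by
  haveI : Fact (Nat.Prime 2) := ⟨Nat.prime_two⟩
  refine ⟨fun a b e => h.inj (congrArg Subtype.val e), Subtype.ext h.image, ?_, ?_⟩
  · apply Subgroup.map_injective X.subtype_injective
    rw [MonoidHom.map_range, MonoidHom.map_closure]
    show φ.range = _
    set A := X.subtype '' {x : X | ∃ g : X, x = g * ⟨t, h.t_memX hX⟩ * g⁻¹ ∧
      x * ⟨t, h.t_memX hX⟩ = ⟨t, h.t_memX hX⟩ * x}
    have hAle : Subgroup.closure A ≤ φ.range := by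
      rw [Subgroup.closure_le]
      rintro _ ⟨x, ⟨g, rfl, hx⟩, rfl⟩
      exact h.mem_range ⟨(g : G), rfl⟩ (congrArg Subtype.val hx)
    have hconj : ∀ k : K, ∀ x ∈ Subgroup.closure A, φ k * x * (φ k)⁻¹ ∈ Subgroup.closure A := by
      intro k x hx
      have hle : (Subgroup.closure A).map (MulAut.conj (φ k)).toMonoidHom ≤ Subgroup.closure A := by
        rw [MonoidHom.map_closure]
        refine Subgroup.closure_mono ?_
        rintro _ ⟨_, ⟨y, ⟨g, rfl, hy⟩, rfl⟩, rfl⟩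
        have hc : (⟨φ k, hX.le ⟨k, rfl⟩⟩ : X) * ⟨t, h.t_memX hX⟩ = ⟨t, h.t_memX hX⟩ * ⟨φ k, hX.le ⟨k, rfl⟩⟩ :=
          Subtype.ext (h.range_comm k)
        exact ⟨_, ⟨_ * g, (conj_facts hc hy).1, (conj_facts hc hy).2⟩, rfl⟩
      exact hle ⟨x, hx, rfl⟩
    set P := (Subgroup.closure A).comap φ
    haveI : P.Normal := ⟨fun a ha k => by
      show φ (k * a * k⁻¹) ∈ Subgroup.closure A
      rw [map_mul, map_mul, map_inv]
      exact hconj k _ ha⟩
    have hz : z0 ∈ P := by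
      show φ z0 ∈ Subgroup.closure A
      rw [h.image]
      exact Subgroup.subset_closure ⟨⟨t, h.t_memX hX⟩, ⟨1, by simp, rfl⟩, rfl⟩
    obtain ⟨x, hxX, hx4, hxne⟩ := hX.move
    obtain ⟨k, hk, hkx⟩ := hx4
    have hxc : x * t * x⁻¹ * t = t * (x * t * x⁻¹) := by rw [← hkx]; exact h.range_comm k
    have hkP : k ∈ P := by
      show φ k ∈ Subgroup.closure A
      rw [hkx]
      exact Subgroup.subset_closure ⟨⟨x, hxX⟩ * ⟨t, h.t_memX hX⟩ * ⟨x, hxX⟩⁻¹, ⟨⟨x, hxX⟩, rfl,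
        Subtype.ext hxc⟩, rfl⟩
    obtain ⟨o, rfl⟩ := four_cases hk fun e => h.t_ne (by rw [e, map_one] at hkx; exact conj_eq_one_iff.mp hkx.symm)
    rcases o with _ | o
    · exact absurd (hkx.symm.trans h.image) hxne
    have htop := normal_eq_top P hz hkP
    refine le_antisymm ?_ hAle
    rintro _ ⟨l, rfl⟩
    exact ((Subgroup.eq_top_iff' P).mp htop l : φ l ∈ Subgroup.closure A)
  · obtain ⟨R, hR⟩ := ((isPGroup_four h.inj).of_equiv
      (Subgroup.subgroupOfEquivOfLe hX.four_le).symm).exists_le_sylow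
    refine ⟨R, hR (show (t : G) ∈ four φ from h.t_mem), fun s hs => Subtype.ext ?_⟩
    have hle : four φ ≤ (R : Subgroup X).map X.subtype := fun y hy => ⟨⟨y, hX.four_le hy⟩, hR hy, rfl⟩
    exact cent_t h (h.le_centralizer (R.2.map X.subtype) hle ⟨s, hs, rfl⟩)

/-- Conjugates of `t` in such a subgroup are conjugate to it there. -/
theorem Setup.cls_sub (h : Setup t φ) {X : Subgroup G} (hX : Mov t φ X) {x : G} (hx : x ∈ X) (hc : Cls t x) :
    ∃ g ∈ X, g * t * g⁻¹ = x := by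
  haveI : Fact (Nat.Prime 2) := ⟨Nat.prime_two⟩
  obtain ⟨R, hR⟩ := ((isPGroup_four h.inj).of_equiv
      (Subgroup.subgroupOfEquivOfLe hX.four_le).symm).exists_le_sylow
  have hx2 : x * x = 1 := by
    obtain ⟨g, rfl⟩ := hc
    rw [conj_mul, h.t_sq, mul_one, mul_inv_cancel]
  have hx1 : (⟨x, hx⟩ : X) ≠ 1 := fun e => by
    obtain ⟨g, hg⟩ := hc
    have hx' : x = 1 := congrArg Subtype.val e
    rw [hx'] at hg
    exact h.t_ne (conj_eq_one_iff.mp hg)
  obtain ⟨R', hR'⟩ := (IsPGroup.of_card (n := 1) (by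
    rw [Nat.card_zpowers, pow_one]
    exact orderOf_eq_prime (by rw [sq]; exact Subtype.ext hx2) hx1) :
      IsPGroup 2 (Subgroup.zpowers (⟨x, hx⟩ : X))).exists_le_sylow
  obtain ⟨g, hg⟩ := MulAction.exists_smul_eq X R' R
  have hmem : g * ⟨x, hx⟩ * g⁻¹ ∈ (R : Subgroup X) := by
    rw [← hg, Sylow.coe_subgroup_smul]
    exact Subgroup.mem_map.mpr ⟨⟨x, hx⟩, hR' (Subgroup.mem_zpowers _), by simp⟩
  have hle : four φ ≤ (R : Subgroup X).map X.subtype := fun y hy => ⟨⟨y, hX.four_le hy⟩, hR hy, rfl⟩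
  have h4 := h.wc (R.2.map X.subtype) hle ⟨_, hmem, rfl⟩ (hc.conj (g : G))
  obtain ⟨k, hk, hkx⟩ := h4
  obtain ⟨m, hm⟩ := (h.sub hX).cls_four (x := res φ hX.le k) ⟨k, hk, rfl⟩ fun e => by
    have e' : φ k = 1 := congrArg Subtype.val e
    rw [hkx] at e'
    exact hx1 (Subtype.ext (conj_eq_one_iff.mp (e' : (g : G) * x * (g : G)⁻¹ = 1)))
  refine ⟨(g : G)⁻¹ * m, mul_mem (inv_mem g.2) m.2, ?_⟩
  have hm' : (m : G) * t * (m : G)⁻¹ = (g : G) * x * (g : G)⁻¹ := (congrArg Subtype.val hm).trans hkx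
  calc (g : G)⁻¹ * m * t * ((g : G)⁻¹ * m)⁻¹ = (g : G)⁻¹ * ((m : G) * t * (m : G)⁻¹) * g := by group
    _ = x := by rw [hm']; group

/-- Conjugates of `t` in such a subgroup are closed under commuting. -/
theorem Setup.closed (h : Setup t φ) {X : Subgroup G} (hX : Mov t φ X) {s b : G} (hs : s ∈ X) (hsc : Cls t s)
    (hb : Cls t b) (hcomm : b * s = s * b) : b ∈ X := by
  obtain ⟨g, hg, rfl⟩ := h.cls_sub hX hs hsc
  have hm : g⁻¹ * b * g⁻¹⁻¹ ∈ φ.range := h.mem_range (hb.conj g⁻¹) (by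
    rw [inv_inv]
    calc g⁻¹ * b * g * t = g⁻¹ * (b * (g * t * g⁻¹)) * g := by group
      _ = _ := by rw [hcomm]; group)
  have := mul_mem (mul_mem hg (hX.le hm)) (inv_mem hg)
  rwa [show g * (g⁻¹ * b * g⁻¹⁻¹) * g⁻¹ = b by group] at this

/-- The number of conjugates of `t` in a proper such subgroup. -/
theorem Setup.count (h : Setup t φ) (hs : Small G) {X : Subgroup G} (hX : Mov t φ X) (hne : X ≠ ⊤) :
    Nat.card {x : G // x ∈ X ∧ Cls t x} = 1463 := by
  set u : X := ⟨t, h.t_memX hX⟩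
  have hsub := h.sub hX
  obtain ⟨e⟩ := hs X (lt_of_le_of_ne X.card_le_card_group fun e => hne (X.eq_top_of_card_eq e)) u (res φ hX.le) hsub
  set L := Subgroup.normalClosure ({u} : Set X)
  have hu : u ∈ L := Subgroup.subset_normalClosure rfl
  have ha : (⟨u, hu⟩ : L) * ⟨u, hu⟩ = 1 := Subtype.ext hsub.t_sq
  have ha1 : (⟨u, hu⟩ : L) ≠ 1 := fun e' => hsub.t_ne (congrArg Subtype.val e')
  rw [← like_class e ha ha1]
  symm
  refine Nat.card_congr (Equiv.ofBijective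
    (fun y => ⟨((y.1 : X) : G), (y.1 : X).2, y.2.elim fun g hg => ⟨((g : X) : G), by rw [← hg]; rfl⟩⟩) ⟨?_, ?_⟩)
  · exact fun y y' e' => Subtype.ext (Subtype.ext (Subtype.ext (congrArg Subtype.val e' :)))
  · rintro ⟨x, hx, hc⟩
    obtain ⟨g, hg, rfl⟩ := h.cls_sub hX hx hc
    have hxL : (⟨g, hg⟩ : X) * u * ⟨g, hg⟩⁻¹ ∈ L := Subgroup.normalClosure_normal.conj_mem u hu _
    have hu2 : u * u = 1 := hsub.t_sq
    obtain ⟨l, hl⟩ := like_conj e ha ha1 (b := ⟨_, hxL⟩)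
      (Subtype.ext (by rw [Subgroup.coe_mul, Subgroup.coe_one, conj_mul, hu2, mul_one, mul_inv_cancel]))
      (fun e' => hsub.t_ne (conj_eq_one_iff.mp (congrArg Subtype.val e')))
    exact ⟨⟨_, l, hl⟩, rfl⟩

/-- Two proper such subgroups, one inside the other, contain the same conjugates. -/
theorem Setup.same (h : Setup t φ) (hs : Small G) {X Y : Subgroup G} (hX : Mov t φ X) (hle : X ≤ Y) (hne : Y ≠ ⊤)
    {x : G} (hx : x ∈ Y) (hc : Cls t x) : x ∈ X := by
  classical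
  have hY : Mov t φ Y := ⟨hX.le.trans hle, hX.move.imp fun _ hg => ⟨hle hg.1, hg.2⟩⟩
  have hbij : Function.Bijective
      (fun a : {x : G // x ∈ X ∧ Cls t x} => (⟨a.1, hle a.2.1, a.2.2⟩ : {x : G // x ∈ Y ∧ Cls t x})) :=
    (Nat.bijective_iff_injective_and_card _).mpr ⟨fun a b e => Subtype.ext (congrArg Subtype.val e :),
      (h.count hs hX fun e => hne (top_le_iff.mp (e ▸ hle))).trans (h.count hs hY hne).symm⟩
  obtain ⟨a, ha⟩ := hbij.2 ⟨x, hx, hc⟩
  have he : a.1 = x := congrArg Subtype.val ha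
  exact he ▸ a.2.1

end CfsgLib.J1WeakClosure
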