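/-
The centre is trivial when one class of conjugates generates.
-/
import Cfsg.Agent.Lib.J1WeakClosure.Descent

set_option autoImplicit false
set_option linter.unusedSectionVars false

namespace CfsgLib.J1WeakClosure

open Subgroup CfsgLib.JankoOne
open scoped commutatorElement

universe u
variable {G : Type u} [Group G] [Finite G] {t : G} {φ : K →* G}

theorem Setup.perfect (h : Setup t φ) (hgen : Subgroup.normalClosure ({t} : Set G) = ⊤) : commutator G = ⊤ := by
  refine top_le_iff.mp (hgen ▸ Subgroup.normalClosure_le_normal (Set.singleton_subset_iff.mpr ?_))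
  obtain ⟨n, -, hn⟩ := h.exists_mover (orb_mem_four (φ := φ) (some (0, 0)))
    (fun e => orbRep_ne_one _ (h.inj (e.trans (map_one φ).symm)))
  have hv : φ (orbRep (some (0, 0))) ∈ commutator G := by
    rw [orbRep_zero, Fin.val_zero, pow_zero, one_mul, ← v0_commutator, map_commutatorElement]
    exact Subgroup.commutator_mem_commutator (Subgroup.mem_top _) (Subgroup.mem_top _)
  rw [show t = n⁻¹ * φ (orbRep (some (0, 0))) * n⁻¹⁻¹ by rw [← hn]; group]
  exact Subgroup.Normal.conj_mem inferInstance _ hv _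

/-- A perfect group has no non-trivial central element of prime order in an abelian Sylow subgroup. -/
theorem false_of_central {p : ℕ} [Fact p.Prime] (hperf : commutator G = ⊤) (P : Sylow p G)
    (hP : ∀ a ∈ (P : Subgroup G), ∀ b ∈ (P : Subgroup G), a * b = b * a) {z : G} (hzP : z ∈ (P : Subgroup G))
    (hz : z ∈ Subgroup.center G) (ho : orderOf z = p) : False := by
  letI : CommGroup (P : Subgroup G) :=
    { (inferInstance : Group (P : Subgroup G)) with mul_comm := fun a b => Subtype.ext (hP a a.2 b b.2) }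
  have hfix : ∀ (k : ℕ) (g₀ : G), g₀⁻¹ * z ^ k * g₀ ∈ (P : Subgroup G) → g₀⁻¹ * z ^ k * g₀ = z ^ k := fun k g₀ _ => by
    rw [mul_assoc, ← Subgroup.mem_center_iff.mp (pow_mem hz k) g₀, inv_mul_cancel_left]
  let v : G →* (P : Subgroup G) := MonoidHom.transfer (MonoidHom.id (P : Subgroup G))
  have hv : v z = 1 := by
    have : z ∈ v.ker := Abelianization.commutator_subset_ker v (hperf ▸ Subgroup.mem_top z)
    exact this
  have h1 : z ^ (P : Subgroup G).index = 1 := by
    have e := MonoidHom.transfer_eq_pow (MonoidHom.id (P : Subgroup G)) z hfix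
    exact congrArg Subtype.val (e.symm.trans hv :)
  have hdvd := orderOf_dvd_of_pow_eq_one h1
  rw [ho] at hdvd
  exact P.not_dvd_index hdvd

/-- Conjugates whose commutator is central commute. -/
theorem Setup.commute_of_central (h : Setup t φ) {s : G} (hs : Cls t s)
    (hc : (s * t) * (s * t) ∈ Subgroup.center G) : s * t = t * s := by
  haveI : Fact (Nat.Prime 2) := ⟨Nat.prime_two⟩
  have hs2 : s * s = 1 := by
    obtain ⟨g, rfl⟩ := hs
    rw [conj_mul, h.t_sq, mul_one, mul_inv_cancel]
  have hinv : t * (s * t) * t⁻¹ = (s * t)⁻¹ := by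
    rw [mul_inv_rev, inv_eq_of_mul_eq_one_right hs2, mul_assoc, mul_assoc, mul_inv_cancel, mul_one,
      inv_eq_of_mul_eq_one_right h.t_sq]
  have h4 : (s * t) ^ 2 ^ 2 = 1 := by
    have e1 : t * (s * t * (s * t)) * t⁻¹ = s * t * (s * t) := by
      rw [Subgroup.mem_center_iff.mp hc t, mul_inv_cancel_right]
    rw [← conj_mul, hinv] at e1
    rw [show (2 : ℕ) ^ 2 = 2 + 2 from rfl, pow_add, sq]
    calc s * t * (s * t) * (s * t * (s * t)) = s * t * (s * t) * ((s * t)⁻¹ * (s * t)⁻¹) := by rw [e1]
      _ = 1 := by group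
  have hD : IsPGroup 2 (Subgroup.zpowers (s * t)) := by
    obtain ⟨k, -, hk⟩ := (Nat.dvd_prime_pow Nat.prime_two).mp (orderOf_dvd_of_pow_eq_one h4)
    exact IsPGroup.of_card (n := k) (by rw [Nat.card_zpowers, hk])
  have ht : IsPGroup 2 (Subgroup.zpowers t) := IsPGroup.of_card (n := 1) (by
    rw [Nat.card_zpowers, pow_one]; exact orderOf_eq_prime (by rw [sq, h.t_sq]) h.t_ne)
  have hn : Subgroup.zpowers t ≤ Subgroup.normalizer (Subgroup.zpowers (s * t) : Set G) := by
    rw [Subgroup.zpowers_le]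
    refine Subgroup.mem_normalizer_fintype fun x hx => ?_
    obtain ⟨j, rfl⟩ := Subgroup.mem_zpowers_iff.mp hx
    rw [← conj_zpow, hinv]
    exact zpow_mem (inv_mem (Subgroup.mem_zpowers _)) j
  obtain ⟨T, hT⟩ := (hD.to_sup_of_normal_left' ht hn).exists_le_sylow
  obtain ⟨S, hS, hSt⟩ := h.exists_sylow_four
  obtain ⟨a, ha⟩ := MulAction.exists_smul_eq G T S
  have hmem : ∀ x ∈ (T : Subgroup G), Cls t x → a * x * a⁻¹ ∈ four φ := fun x hx hxc => by
    refine h.cls_sylow hS hSt ?_ (hxc.conj a)
    rw [← ha, Sylow.coe_subgroup_smul]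
    exact Subgroup.mem_map.mpr ⟨x, hx, by simp⟩
  have hsT : s ∈ (T : Subgroup G) := hT (by
    have := mul_mem (Subgroup.mem_sup_left (T := Subgroup.zpowers t) (Subgroup.mem_zpowers (s * t)))
      (Subgroup.mem_sup_right (S := Subgroup.zpowers (s * t)) (Subgroup.mem_zpowers t))
    rwa [mul_assoc, h.t_sq, mul_one] at this)
  have htT : t ∈ (T : Subgroup G) := hT (Subgroup.mem_sup_right (Subgroup.mem_zpowers t))
  have := four_comm (hmem s hsT hs) (hmem t htT (Cls.self t))
  rw [conj_mul, conj_mul] at this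
  exact mul_left_cancel (mul_right_cancel this)

theorem Setup.center_eq_bot (h : Setup t φ) (hs : Small G) (hgen : Subgroup.normalClosure ({t} : Set G) = ⊤) :
    Subgroup.center G = ⊥ := by
  classical
  haveI : Fact (Nat.Prime 2) := ⟨Nat.prime_two⟩
  by_contra hZ
  set Z := Subgroup.center G
  set π := QuotientGroup.mk' Z
  have hπ : Function.Surjective π := QuotientGroup.mk'_surjective Z
  have hker : π.ker = Z := QuotientGroup.ker_mk' Z
  have hπ1 : ∀ x, π x = 1 ↔ x ∈ Z := fun x => QuotientGroup.eq_one_iff x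
  have htZ : t ∉ Z := fun ht => by
    obtain ⟨o, g, hg⟩ := h.exists_orb_cls
    rw [Subgroup.mem_center_iff.mp ht g, mul_inv_cancel_right, ← h.image] at hg
    simpa using orbRep_injective (a₁ := none) (a₂ := some o) (h.inj hg)
  have hinj : Function.Injective (π.comp φ) := by
    rw [injective_iff_map_eq_one]
    intro k hk
    have hkZ : φ k ∈ Z := (hπ1 _).mp hk
    refine (center_cases k fun l => h.inj ?_).resolve_right fun e => htZ (h.image ▸ e ▸ hkZ)
    rw [map_mul, map_mul]
    exact (Subgroup.mem_center_iff.mp hkZ (φ l)).symm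
  have hsetup : Setup (π t) (π.comp φ) := by
    refine ⟨hinj, congrArg π h.image, ?_, ?_⟩
    · rw [MonoidHom.range_comp, h.gen, MonoidHom.map_closure]
      congr 1
      ext x
      constructor
      · rintro ⟨y, ⟨g, rfl, hy⟩, rfl⟩
        exact ⟨π g, by simp [map_mul], by rw [← map_mul, ← map_mul, hy]⟩
      · rintro ⟨g, hx, hx'⟩
        obtain ⟨g, rfl⟩ := hπ g
        rw [← map_inv, ← map_mul, ← map_mul] at hx
        subst hx
        refine ⟨g * t * g⁻¹, ⟨g, rfl, h.commute_of_central ⟨g, rfl⟩ ((hπ1 _).mp ?_)⟩, rfl⟩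
        have hs2 : π (g * t * g⁻¹) * π (g * t * g⁻¹) = 1 := by
          rw [← map_mul, conj_mul, h.t_sq, mul_one, mul_inv_cancel, map_one]
        have ht2 : π t * π t = 1 := by rw [← map_mul, h.t_sq, map_one]
        rw [map_mul π _ (g * t * g⁻¹ * t), map_mul π (g * t * g⁻¹) t]
        generalize π (g * t * g⁻¹) = a, π t = b at hx' hs2 ht2 ⊢
        calc a * b * (a * b) = a * (b * a) * b := by group
          _ = a * a * (b * b) := by rw [← hx']; group
          _ = 1 := by rw [hs2, ht2, one_mul]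
    · obtain ⟨S, htS, hSt⟩ := h.sylow
      refine ⟨S.mapSurjective hπ, ⟨t, htS, rfl⟩, ?_⟩
      rintro _ ⟨s, hs', rfl⟩
      rw [← map_mul, ← map_mul, hSt s hs']
  have hlt : Nat.card (G ⧸ Z) < Nat.card G := by
    rw [Z.card_eq_card_quotient_mul_card_subgroup]
    exact lt_mul_of_one_lt_right Nat.card_pos (Z.one_lt_card_iff_ne_bot.mpr hZ)
  obtain ⟨e⟩ := hs (G ⧸ Z) hlt _ _ hsetup
  have hgen' : Subgroup.normalClosure ({π t} : Set (G ⧸ Z)) = ⊤ := by
    have := Subgroup.map_normalClosure ({t} : Set G) π hπ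
    rw [hgen, Subgroup.map_top_of_surjective π hπ, Set.image_singleton] at this
    exact this.symm
  have hcard : Nat.card (G ⧸ Z) = 175560 :=
    like_card (((MulEquiv.subgroupCongr hgen').trans Subgroup.topEquiv).symm.trans e)
  have hperf := h.perfect hgen
  obtain ⟨p, hp, hpd⟩ := Nat.exists_prime_and_dvd (Z.one_lt_card_iff_ne_bot.mpr hZ).ne'
  haveI : Fact p.Prime := ⟨hp⟩
  obtain ⟨⟨z, hzZ⟩, hzo⟩ := exists_prime_orderOf_dvd_card' p hpd
  rw [Subgroup.orderOf_mk] at hzo
  obtain ⟨P, hP⟩ := (IsPGroup.of_card (n := 1) (by rw [Nat.card_zpowers, hzo, pow_one]) :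
    IsPGroup p (Subgroup.zpowers z)).exists_le_sylow
  have hzall : ∀ Q : Sylow p G, z ∈ (Q : Subgroup G) := fun Q => by
    obtain ⟨a, ha⟩ := MulAction.exists_smul_eq G P Q
    rw [← ha, Sylow.coe_subgroup_smul]
    refine Subgroup.mem_map.mpr ⟨z, hP (Subgroup.mem_zpowers z), ?_⟩
    show a * z * a⁻¹ = z
    rw [Subgroup.mem_center_iff.mp hzZ a, mul_inv_cancel_right]
  have hpow : ∀ (Q : Sylow p G), Nat.card ((Q : Subgroup G).map π) = p ^ (175560 : ℕ).factorization p := fun Q => by
    rw [← hcard]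
    exact (Q.mapSurjective hπ).card_eq_multiplicity
  rcases eq_or_ne p 2 with rfl | hp2
  · obtain ⟨S, hS, -⟩ := h.exists_sylow_four
    have himg : (four φ).map π = (S : Subgroup G).map π := by
      refine Subgroup.eq_of_le_of_card_ge (Subgroup.map_mono hS) ?_
      rw [hpow S, four, Subgroup.map_map, Subgroup.card_map_of_injective hinj, card_fourCent,
        show (175560 : ℕ) = 2 ^ 3 * 21945 from rfl, Nat.factorization_mul (by norm_num) (by norm_num),
        Finsupp.add_apply, Nat.factorization_pow, Finsupp.smul_apply, Nat.prime_two.factorization_self,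
        Nat.factorization_eq_zero_of_not_dvd (show ¬ 2 ∣ 21945 by norm_num)]
      norm_num
    have hdec : ∀ x ∈ (S : Subgroup G), ∃ a ∈ four φ, ∃ c ∈ Z, x = a * c := fun x hx => by
      obtain ⟨a, ha, hax⟩ : π x ∈ (four φ).map π := himg ▸ ⟨x, hx, rfl⟩
      exact ⟨a, ha, a⁻¹ * x, (hπ1 _).mp (by rw [map_mul, map_inv, hax, inv_mul_cancel]), by group⟩
    refine false_of_central hperf S (fun x hx y hy => ?_) (hzall S) hzZ hzo
    obtain ⟨a, ha, c, hc, rfl⟩ := hdec x hx
    obtain ⟨b, hb, d, hd, rfl⟩ := hdec y hy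
    have hcb := Subgroup.mem_center_iff.mp hc
    have hdb := Subgroup.mem_center_iff.mp hd
    calc a * c * (b * d) = a * (c * b) * d := by group
      _ = a * b * (c * d) := by rw [← hcb b]; group
      _ = b * a * (d * c) := by rw [four_comm ha hb, hdb c]
      _ = b * (a * d) * c := by group
      _ = _ := by rw [hdb a]; group
  · have hle : (175560 : ℕ).factorization p ≤ 1 := by
      rw [show (175560 : ℕ) = 2 ^ 3 * 21945 from rfl, Nat.factorization_mul (by norm_num) (by norm_num),
        Finsupp.add_apply, Nat.factorization_pow, Finsupp.smul_apply,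
        Nat.factorization_eq_zero_of_not_dvd (n := 2) (fun hd => hp2 ((Nat.prime_dvd_prime_iff_eq hp Nat.prime_two).mp hd)),
        smul_zero, zero_add]
      refine Squarefree.natFactorization_le_one p ?_
      rw [Nat.squarefree_iff_nodup_primeFactorsList (by norm_num)]
      simp
    haveI : IsCyclic ((P : Subgroup G).map π) := by
      rcases Nat.le_one_iff_eq_zero_or_eq_one.mp hle with e | e
      · haveI : Subsingleton ((P : Subgroup G).map π) :=
          (Nat.card_eq_one_iff_unique.mp (by rw [hpow P, e, pow_zero])).1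
        infer_instance
      · exact isCyclic_of_prime_card (p := p) (by rw [hpow P, e, pow_one])
    refine false_of_central hperf P (fun x hx y hy => ?_) (hzall P) hzZ hzo
    have hk : (π.subgroupMap (P : Subgroup G)).ker ≤ Subgroup.center (P : Subgroup G) := fun a ha =>
      Subgroup.mem_center_iff.mpr fun b => Subtype.ext
        (Subgroup.mem_center_iff.mp ((hπ1 _).mp (congrArg Subtype.val ha)) (b : G))
    haveI := (π.subgroupMap (P : Subgroup G)).isMulCommutative_of_isCyclic_of_ker_le_center hk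
    exact Subgroup.mul_comm_of_mem_isMulCommutative (P : Subgroup G) hx hy

end CfsgLib.J1WeakClosure
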