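/-
The kernel of the action on the weak closures is trivial.
-/
import Cfsg.Agent.Lib.J1WeakClosure.Descent

set_option autoImplicit false
set_option linter.unusedSectionVars false

namespace CfsgLib.J1WeakClosure

open Subgroup CfsgLib.JankoOne
open CfsgLib.Involutions (orderOf_eq_two_iff')

universe u
variable {G : Type u} [Group G] [Finite G] {t : G} {φ : K →* G}

theorem Setup.mover_moves (h : Setup t φ) {n : G} (hn : n ∈ normalizer (four φ : Set G)) (hne : n * t * n⁻¹ ≠ t) :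
    n * φ c0 * n⁻¹ * t * (n * φ c0 * n⁻¹)⁻¹ ∈ four φ ∧ n * φ c0 * n⁻¹ * t * (n * φ c0 * n⁻¹)⁻¹ ≠ t := by
  have hx : n * φ c0 * n⁻¹ ∈ normalizer (four φ : Set G) := mul_mem (mul_mem hn h.c0_normalizer) (inv_mem hn)
  refine ⟨(mem_normalizer_iff.mp hx t).mp h.t_mem, fun e => hne ?_⟩
  obtain ⟨k, hk, hkx⟩ := (mem_normalizer_iff''.mp hn t).mp h.t_mem
  have hcomm : c0 * k = k * c0 := h.inj (by
    rw [map_mul, map_mul, hkx]
    rw [mul_inv_eq_iff_eq_mul] at e
    calc φ c0 * (n⁻¹ * t * n) = n⁻¹ * (n * φ c0 * n⁻¹ * t) * n := by group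
      _ = _ := by rw [e]; group)
  rcases c0_fix hk hcomm with rfl | rfl
  · rw [map_one] at hkx
    exact absurd (calc t = n * (n⁻¹ * t * n) * n⁻¹ := by group
      _ = 1 := by rw [← hkx]; group) h.t_ne
  · rw [h.image] at hkx
    calc n * t * n⁻¹ = n * (n⁻¹ * t * n) * n⁻¹ := by rw [← hkx]
      _ = t := by group

/-- Connection by commuting conjugates. -/
abbrev Reach (t s : G) : Prop := Relation.ReflTransGen (fun a b => Cls t b ∧ b * a = a * b) t s

theorem Reach.cls {s : G} (h : Reach t s) : Cls t s := by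
  induction h with
  | refl => exact Cls.self t
  | tail _ hb => exact hb.1

/-- The subgroup generated by the connected component. -/
def comp (t : G) : Subgroup G := Subgroup.closure {s | Reach t s}

theorem Setup.rot_mem_comp (h : Setup t φ) {n : G} (hn : n ∈ normalizer (four φ : Set G)) (k : K) :
    n * φ k * n⁻¹ ∈ comp t := by
  have hs : Reach t (n * t * n⁻¹) :=
    .single ⟨⟨n, rfl⟩, four_comm ((mem_normalizer_iff.mp hn t).mp h.t_mem) h.t_mem⟩
  suffices hle : φ.range.map (MulAut.conj n).toMonoidHom ≤ comp t from hle ⟨φ k, ⟨k, rfl⟩, rfl⟩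
  rw [h.gen, MonoidHom.map_closure, Subgroup.closure_le]
  rintro _ ⟨_, ⟨g, rfl, hg⟩, rfl⟩
  refine Subgroup.subset_closure (hs.tail ⟨⟨n * g, by simp [mul_assoc]⟩, ?_⟩)
  show n * (g * t * g⁻¹) * n⁻¹ * (n * t * n⁻¹) = n * t * n⁻¹ * (n * (g * t * g⁻¹) * n⁻¹)
  rw [conj_mul, conj_mul, hg]

theorem Setup.exists_moving (h : Setup t φ) : ∃ n ∈ normalizer (four φ : Set G), n * t * n⁻¹ ≠ t := by
  obtain ⟨n, hn, hnt⟩ := h.exists_mover (orb_mem_four (φ := φ) (some (0, 0)))
    (fun e => orbRep_ne_one _ (h.inj (e.trans (map_one φ).symm)))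
  refine ⟨n, hn, fun e => ?_⟩
  have e' : φ (orbRep (some (0, 0))) = φ z0 := hnt.symm.trans (e.trans h.image.symm)
  simpa using orbRep_injective (a₁ := some (0, 0)) (a₂ := none) (h.inj e')

theorem Setup.mov_comp (h : Setup t φ) : Mov t φ (comp t) := by
  obtain ⟨n, hn, hne⟩ := h.exists_moving
  refine ⟨?_, ⟨_, h.rot_mem_comp hn c0, h.mover_moves hn hne⟩⟩
  rintro _ ⟨k, rfl⟩
  simpa using h.rot_mem_comp (one_mem _) k

theorem Setup.comp_normalizer (h : Setup t φ) {c : G} (hc : c * t = t * c) : c ∈ normalizer (comp t : Set G) := by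
  refine Subgroup.mem_normalizer_fintype fun x hx => ?_
  suffices hle : (comp t).map (MulAut.conj c).toMonoidHom ≤ comp t from hle ⟨x, hx, rfl⟩
  rw [comp, MonoidHom.map_closure]
  refine Subgroup.closure_mono ?_
  rintro _ ⟨s, hs, rfl⟩
  show Reach t (c * s * c⁻¹)
  induction hs with
  | refl => rw [hc, mul_inv_cancel_right]
  | @tail a b _ hb ih =>
    refine ih.tail ⟨hb.1.conj c, ?_⟩
    rw [conj_mul, conj_mul, hb.2]

/-- The component subgroup in a minimal situation. -/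
structure Emb (t : G) (φ : K →* G) (L : Subgroup G) : Prop where
  setup : Setup t φ
  small : Small G
  gen : Subgroup.normalClosure ({t} : Set G) = ⊤
  centre : Subgroup.center G = ⊥
  mov : Mov t φ L
  ne_top : L ≠ ⊤
  iso : Nonempty (L ≃* ↥Cfsg.Spor.J1)
  ker : kerW φ ≤ centralizer (L : Set G)
  norm : ∀ x, x * t = t * x → x ∈ normalizer (L : Set G)
  closure_cls : L ≤ Subgroup.closure {s | s ∈ L ∧ Cls t s}

theorem Setup.not_top_centralizer (hZ : Subgroup.center G = ⊥) {c : G} (hc1 : c ≠ 1) :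
    centralizer ({c} : Set G) ≠ ⊤ := fun e => by
  have hcz : c ∈ Subgroup.center G := Subgroup.mem_center_iff.mpr fun x =>
    mem_centralizer_singleton_iff.mp (e ▸ Subgroup.mem_top x : x ∈ centralizer ({c} : Set G))
  rw [hZ, Subgroup.mem_bot] at hcz
  exact hc1 hcz

theorem Setup.exists_emb (h : Setup t φ) (hs : Small G) (hgen : Subgroup.normalClosure ({t} : Set G) = ⊤)
    (hZ : Subgroup.center G = ⊥) (hk : kerW φ ≠ ⊥) : ∃ L, Emb t φ L := by
  obtain ⟨c₁, hc₁, hc₁1⟩ := (Subgroup.ne_bot_iff_exists_ne_one.mp hk : ∃ a : kerW φ, a ≠ 1).elim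
    fun a ha => (⟨a.1, a.2, fun e => ha (Subtype.ext e)⟩ : ∃ c, c ∈ kerW φ ∧ c ≠ 1)
  have hL : Mov t φ (comp t) := h.mov_comp
  have hLc : ∀ c ∈ kerW φ, comp t ≤ centralizer ({c} : Set G) := by
    intro c hc
    have hmov : Mov t φ (centralizer ({c} : Set G)) := by
      obtain ⟨n, hn, hne⟩ := h.exists_moving
      refine ⟨?_, ⟨n * φ c0 * n⁻¹, mem_centralizer_singleton_iff.mpr (hc n hn c0).symm, h.mover_moves hn hne⟩⟩
      rintro _ ⟨k, rfl⟩
      refine mem_centralizer_singleton_iff.mpr ?_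
      simpa using (hc 1 (one_mem _) k).symm
    rw [comp, Subgroup.closure_le]
    intro s hs
    induction hs with
    | refl => exact h.t_memX hmov
    | tail hab hb ih => exact h.closed hmov ih (Reach.cls hab) hb.1 hb.2
  have hLne : comp t ≠ ⊤ := fun e =>
    Setup.not_top_centralizer hZ hc₁1 (top_le_iff.mp (e ▸ hLc c₁ hc₁))
  have htL : t ∈ comp t := h.t_memX hL
  obtain ⟨e⟩ := hs (comp t) (lt_of_le_of_ne (comp t).card_le_card_group fun e => hLne ((comp t).eq_top_of_card_eq e))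
    _ _ (h.sub hL)
  have htop : Subgroup.normalClosure ({⟨t, htL⟩} : Set (comp t)) = ⊤ := by
    apply Subgroup.map_injective (comp t).subtype_injective
    refine le_antisymm (Subgroup.map_mono le_top) ?_
    rw [← MonoidHom.range_eq_map, Subgroup.range_subtype]
    refine (Subgroup.closure_le _).mpr fun s hs => ?_
    obtain ⟨g, hg, hgs⟩ := h.cls_sub hL (Subgroup.subset_closure hs) (Reach.cls hs)
    have hmem : (⟨g, hg⟩ : comp t) * ⟨t, htL⟩ * ⟨g, hg⟩⁻¹ ∈ Subgroup.normalClosure ({⟨t, htL⟩} : Set (comp t)) :=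
      Subgroup.normalClosure_normal.conj_mem _ (Subgroup.subset_normalClosure (Set.mem_singleton _)) _
    refine SetLike.mem_coe.mpr (Subgroup.mem_map.mpr ⟨_, hmem, ?_⟩)
    simpa using hgs
  exact ⟨comp t, h, hs, hgen, hZ, hL, hLne, ⟨((MulEquiv.subgroupCongr htop).trans Subgroup.topEquiv).symm.trans e⟩,
    fun c hc => mem_centralizer_iff.mpr fun x hx => mem_centralizer_singleton_iff.mp (hLc c hc hx),
    fun x hx => h.comp_normalizer hx,
    Subgroup.closure_mono fun s hs => ⟨Subgroup.subset_closure hs, Reach.cls hs⟩⟩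

variable {L : Subgroup G}

theorem Emb.t_mem (m : Emb t φ L) : t ∈ L := m.setup.t_memX m.mov

theorem Emb.cls_invol (m : Emb t φ L) {x : G} (hx : Cls t x) : x * x = 1 ∧ x ≠ 1 := by
  obtain ⟨g, rfl⟩ := hx
  exact ⟨by rw [conj_mul, m.setup.t_sq, mul_one, mul_inv_cancel], fun e => m.setup.t_ne (conj_eq_one_iff.mp e)⟩

theorem Emb.disj (m : Emb t φ L) {a : G} (ha : a ∈ L) (haD : a ∈ centralizer (L : Set G)) : a = 1 := by
  obtain ⟨e⟩ := m.iso
  haveI : IsSimpleGroup L := like_simple e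
  have hc : (⟨a, ha⟩ : L) ∈ Subgroup.center L :=
    Subgroup.mem_center_iff.mpr fun x => Subtype.ext (mem_centralizer_iff.mp haD x x.2)
  rcases Subgroup.Normal.eq_bot_or_eq_top (H := Subgroup.center L) inferInstance with e' | e'
  · rw [e', Subgroup.mem_bot] at hc
    exact congrArg Subtype.val hc
  · obtain ⟨x, hxL, -, hx⟩ := m.mov.move
    have : (⟨t, m.t_mem⟩ : L) ∈ Subgroup.center L := e' ▸ Subgroup.mem_top _
    have := congrArg Subtype.val (Subgroup.mem_center_iff.mp this ⟨x, hxL⟩)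
    exact absurd (mul_inv_eq_iff_eq_mul.mpr this) hx

theorem Emb.le_norm (m : Emb t φ L) : L ≤ normalizer (L : Set G) := Subgroup.le_normalizer

theorem Emb.cent_le_norm (m : Emb t φ L) : centralizer (L : Set G) ≤ normalizer (L : Set G) := fun c hc =>
  Subgroup.mem_normalizer_fintype fun x hx => by
    rw [← mem_centralizer_iff.mp hc x hx, mul_inv_cancel_right]
    exact hx

theorem Emb.norm_ne_top (m : Emb t φ L) : normalizer (L : Set G) ≠ ⊤ := fun e => m.ne_top (by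
  haveI : L.Normal := Subgroup.normalizer_eq_top_iff.mp e
  exact top_le_iff.mp (m.gen ▸ Subgroup.normalClosure_le_normal (Set.singleton_subset_iff.mpr m.t_mem)))

theorem Emb.cls_norm (m : Emb t φ L) {s : G} (hs : s ∈ normalizer (L : Set G)) (hc : Cls t s) : s ∈ L :=
  m.setup.same m.small m.mov m.le_norm m.norm_ne_top hs hc

theorem Emb.exists_outside (m : Emb t φ L) : ∃ v, Cls t v ∧ v ∉ normalizer (L : Set G) := by
  by_contra hcon
  push Not at hcon
  refine m.norm_ne_top (top_le_iff.mp (m.gen ▸ (?_ : Subgroup.normalClosure ({t} : Set G) ≤ normalizer (L : Set G))))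
  refine (Subgroup.closure_le _).mpr fun x hx => ?_
  obtain ⟨a, ha, hax⟩ := Group.mem_conjugatesOfSet_iff.mp hx
  rw [Set.mem_singleton_iff] at ha
  subst ha
  exact hcon x (isConj_iff.mp hax)

theorem Emb.comm (m : Emb t φ L) {l q : G} (hl : l ∈ L) (hq : q ∈ centralizer (L : Set G)) : l * q = q * l :=
  mem_centralizer_iff.mp hq _ hl

theorem Emb.decomp (m : Emb t φ L) {x : G} (hx : x ∈ normalizer (L : Set G)) :
    ∃ l ∈ L, ∃ q ∈ centralizer (L : Set G), x = l * q := by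
  obtain ⟨g, hg, hgx⟩ := m.setup.cls_sub m.mov ((mem_normalizer_iff.mp hx t).mp m.t_mem) ⟨x, rfl⟩
  obtain ⟨k, q, hq, hkq⟩ := m.setup.centralizer_decomp (c := g⁻¹ * x) (by
    calc g⁻¹ * x * t = g⁻¹ * (x * t * x⁻¹) * x := by group
      _ = t * (g⁻¹ * x) := by rw [← hgx]; group)
  exact ⟨g * φ k, mul_mem hg (m.mov.le ⟨k, rfl⟩), q, m.ker hq, by rw [mul_assoc, ← hkq, mul_inv_cancel_left]⟩

theorem Emb.unique (m : Emb t φ L) {l l' q q' : G} (hl : l ∈ L) (hl' : l' ∈ L) (hq : q ∈ centralizer (L : Set G))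
    (hq' : q' ∈ centralizer (L : Set G)) (e : l * q = l' * q') : l = l' ∧ q = q' := by
  have e1 : l'⁻¹ * l = q' * q⁻¹ := by
    calc l'⁻¹ * l = l'⁻¹ * (l * q) * q⁻¹ := by group
      _ = _ := by rw [e]; group
  have h1 := m.disj (mul_mem (inv_mem hl') hl) (e1 ▸ mul_mem hq' (inv_mem hq))
  obtain rfl := inv_mul_eq_one.mp h1
  exact ⟨rfl, mul_left_cancel e⟩

theorem Emb.decomp_invol (m : Emb t φ L) {x : G} (hx : x ∈ normalizer (L : Set G)) (hx2 : x * x = 1) :
    ∃ l ∈ L, ∃ q ∈ centralizer (L : Set G), x = l * q ∧ l * l = 1 ∧ q * q = 1 := by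
  obtain ⟨l, hl, q, hq, rfl⟩ := m.decomp hx
  obtain ⟨a, b⟩ := m.unique (mul_mem hl hl) (one_mem L) (mul_mem hq hq) (one_mem _) (by
    rw [one_mul]
    rw [Commute.mul_mul_mul_comm (m.comm hl hq : Commute l q)]
    exact hx2)
  exact ⟨l, hl, q, hq, rfl, a, b⟩

theorem Emb.cls_of_invol (m : Emb t φ L) {l : G} (hl : l ∈ L) (h2 : l * l = 1) (h1 : l ≠ 1) : Cls t l := by
  obtain ⟨e⟩ := m.iso
  obtain ⟨g, hg⟩ := like_conj e (a := (⟨t, m.t_mem⟩ : L)) (b := ⟨l, hl⟩) (Subtype.ext m.setup.t_sq)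
    (fun e' => m.setup.t_ne (congrArg Subtype.val e')) (Subtype.ext h2) (fun e' => h1 (congrArg Subtype.val e'))
  exact ⟨g, congrArg Subtype.val hg⟩

theorem Emb.cent_cls (m : Emb t φ L) {s : G} (hsL : s ∈ L) (hsc : Cls t s) {x : G} (hx : x * s = s * x) :
    x ∈ normalizer (L : Set G) := by
  obtain ⟨g, hg, rfl⟩ := m.setup.cls_sub m.mov hsL hsc
  have := mul_mem (mul_mem (m.le_norm hg) (m.norm (g⁻¹ * x * g) (by
    calc g⁻¹ * x * g * t = g⁻¹ * (x * (g * t * g⁻¹)) * g := by group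
      _ = _ := by rw [hx]; group))) (inv_mem (m.le_norm hg))
  rwa [show g * (g⁻¹ * x * g) * g⁻¹ = x by group] at this

theorem Emb.conj_cls (m : Emb t φ L) {s : G} (hsL : s ∈ L) (hsc : Cls t s) {g : G} (hgs : g * s * g⁻¹ ∈ L) :
    g ∈ normalizer (L : Set G) := by
  obtain ⟨a, ha, rfl⟩ := m.setup.cls_sub m.mov hsL hsc
  obtain ⟨b, hb, hbe⟩ := m.setup.cls_sub m.mov hgs (hsc.conj g)
  have hx : b⁻¹ * g * a * t = t * (b⁻¹ * g * a) := by
    calc b⁻¹ * g * a * t = b⁻¹ * (g * (a * t * a⁻¹) * g⁻¹) * (g * a) := by group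
      _ = _ := by rw [← hbe]; group
  have := mul_mem (mul_mem (m.le_norm hb) (m.norm _ hx)) (inv_mem (m.le_norm ha))
  rwa [show b * (b⁻¹ * g * a) * a⁻¹ = g by group] at this

theorem Emb.cent_kernel (m : Emb t φ L) {c : G} (hc : c ∈ centralizer (L : Set G)) (hc1 : c ≠ 1) :
    (∀ x, Cls t x → x * c = c * x → x ∈ L) ∧ centralizer ({c} : Set G) ≤ normalizer (L : Set G) := by
  have hle : L ≤ centralizer ({c} : Set G) := fun l hl => mem_centralizer_singleton_iff.mpr (m.comm hl hc)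
  have hin : ∀ x, Cls t x → x * c = c * x → x ∈ L := fun x hx hxc =>
    m.setup.same m.small m.mov hle (Setup.not_top_centralizer m.centre hc1)
      (mem_centralizer_singleton_iff.mpr hxc) hx
  refine ⟨hin, fun y hy => Subgroup.mem_normalizer_fintype fun x hx => ?_⟩
  suffices hle' : L.map (MulAut.conj y).toMonoidHom ≤ L from hle' ⟨x, hx, rfl⟩
  refine (Subgroup.map_mono m.closure_cls).trans ?_
  rw [MonoidHom.map_closure, Subgroup.closure_le]
  rintro _ ⟨s, ⟨hsL, hsc⟩, rfl⟩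
  exact hin _ (hsc.conj y) (mem_centralizer_singleton_iff.mp (mul_mem (mul_mem hy (hle hsL)) (inv_mem hy)))

end CfsgLib.J1WeakClosure
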