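/-
The centraliser of the component has odd order.
-/
import Cfsg.Agent.Lib.J1WeakClosure.Embedded
import Cfsg.Agent.Lib.ZStar.Main
import Cfsg.Agent.Lib.CoprimeGen

set_option autoImplicit false
set_option linter.unusedSectionVars false
set_option maxHeartbeats 400000

namespace CfsgLib.J1WeakClosure

open Subgroup CfsgLib.JankoOne
open CfsgLib.Involutions (orderOf_eq_two_iff')

universe u
variable {G : Type u} [Group G] [Finite G] {t : G} {φ : K →* G} {L : Subgroup G}

theorem Emb.cent_odd (m : Emb t φ L) : ¬ 2 ∣ Nat.card (centralizer (L : Set G)) := by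
  classical
  haveI : Fact (Nat.Prime 2) := ⟨Nat.prime_two⟩
  intro heven
  have h := m.setup
  set D := centralizer (L : Set G)
  set H := normalizer (L : Set G)
  obtain ⟨v, hv, hvH⟩ := m.exists_outside
  obtain ⟨⟨z, hzD⟩, hz⟩ := exists_prime_orderOf_dvd_card' 2 heven
  rw [Subgroup.orderOf_mk, orderOf_eq_two_iff'] at hz
  have heo : Even (orderOf (z * v)) := by
    by_contra hodd
    obtain ⟨d, -, hd⟩ := CfsgLib.Involutions.exists_conj_eq_of_odd hz.1 (m.cls_invol hv).1 (Nat.not_even_iff_odd.mp hodd)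
    have hzc : Cls t z := by
      have := hv.conj d⁻¹
      rwa [← hd, show d⁻¹ * (d * z * d⁻¹) * d⁻¹⁻¹ = z by group] at this
    exact hz.2 (m.disj (m.cls_norm (m.cent_le_norm hzD) hzc) hzD)
  obtain ⟨hwz, hwv⟩ := CfsgLib.Involutions.central_half hz.1 (m.cls_invol hv).1 heo
  have hwo := orderOf_eq_two_iff'.mp (CfsgLib.Involutions.orderOf_half (x := z) (y := v) heo)
  generalize (z * v) ^ (orderOf (z * v) / 2) = w at hwz hwv hwo
  have hwH : w ∈ H := (m.cent_kernel hzD hz.2).2 (mem_centralizer_singleton_iff.mpr hwz.eq)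
  obtain ⟨l, hl, q, hq, rfl, hl2, hq2⟩ := m.decomp_invol hwH hwo.1
  by_cases hl1 : l = 1
  · subst hl1
    simp only [one_mul] at hwv hwo
    exact hvH (m.le_norm ((m.cent_kernel hq hwo.2).1 v hv hwv.eq.symm))
  have hlc := m.cls_of_invol hl hl2 hl1
  by_cases hq1 : q = 1
  · subst hq1
    rw [mul_one] at hwv
    exact hvH (m.cent_cls hl hlc hwv.eq.symm)
  set Y := centralizer ({l * q} : Set G) with hY
  have hlY : l ∈ Y := mem_centralizer_singleton_iff.mpr (by rw [mul_assoc, ← m.comm hl hq])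
  have hlu : orderOf (⟨l, hlY⟩ : Y) = 2 := by rw [Subgroup.orderOf_mk, orderOf_eq_two_iff']; exact ⟨hl2, hl1⟩
  have hiso : Cfsg.IsIsolated (⟨l, hlY⟩ : Y) := by
    intro g hg
    have hs' : (g : G) * l * (g : G)⁻¹ * l = l * ((g : G) * l * (g : G)⁻¹) := (congrArg Subtype.val hg).symm
    have hsL : (g : G) * l * (g : G)⁻¹ ∈ L := m.cls_norm (m.cent_cls hl hlc hs') (hlc.conj g)
    obtain ⟨a, ha, b, hb, hab⟩ := m.decomp (m.conj_cls hl hlc hsL)
    refine Subtype.ext ?_
    show (g : G) * l * (g : G)⁻¹ = l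
    have hgw : (g : G) * (l * q) = l * q * g := mem_centralizer_singleton_iff.mp g.2
    rw [hab] at hgw ⊢
    obtain ⟨e1, -⟩ := m.unique (mul_mem ha hl) (mul_mem hl ha) (mul_mem hb hq) (mul_mem hq hb) (by
      calc a * l * (b * q) = a * (l * b) * q := by group
        _ = a * b * (l * q) := by rw [m.comm hl hb]; group
        _ = l * q * (a * b) := hgw
        _ = l * (q * a) * b := by group
        _ = _ := by rw [← m.comm ha hq]; group)
    calc a * b * l * (a * b)⁻¹ = a * (b * l) * b⁻¹ * a⁻¹ := by group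
      _ = a * l * a⁻¹ := by rw [← m.comm hl hb]; group
      _ = l := by rw [e1]; group
  -- a four group of conjugates of `t` inside `Y`
  obtain ⟨g, hg, hgl⟩ := h.cls_sub m.mov hl hlc
  set p := g * φ v0 * g⁻¹ with hp
  have hpL : p ∈ L := mul_mem (mul_mem hg (m.mov.le ⟨v0, rfl⟩)) (inv_mem hg)
  have hp2 : p * p = 1 := by rw [hp, conj_mul, ← map_mul, gens_props.2.2.2.2.1, map_one]; group
  have hp1 : p ≠ 1 := fun e' => gens_props.2.2.2.2.2.1 (h.inj (by rw [map_one]; exact conj_eq_one_iff.mp e'))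
  have hpl : p ≠ l := fun e' => gens_props.2.2.2.2.2.2.1 (h.inj (by
    rw [hp, ← hgl] at e'
    rw [h.image]
    exact mul_left_cancel (mul_right_cancel e')))
  have hcomm : p * l = l * p := by rw [hp, ← hgl, conj_mul, conj_mul, h.range_comm]
  have hpY : p ∈ Y := mem_centralizer_singleton_iff.mpr (by
    rw [← mul_assoc, hcomm, mul_assoc, m.comm hpL hq, ← mul_assoc])
  set A := Subgroup.closure ({⟨l, hlY⟩, ⟨p, hpY⟩} : Set Y)
  haveI hAc : IsMulCommutative A := Subgroup.isMulCommutative_closure (by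
    rintro a (rfl | rfl) b (rfl | rfl)
    · rfl
    · exact Subtype.ext hcomm.symm
    · exact Subtype.ext hcomm
    · rfl)
  have hAsq : ∀ a ∈ A, a * a = 1 := fun a ha => by
    induction ha using Subgroup.closure_induction with
    | mem a ha => rcases ha with rfl | rfl <;> exact Subtype.ext (by first | exact hl2 | exact hp2)
    | one => simp
    | mul a b ha hb iha ihb =>
      have := Subgroup.mul_comm_of_mem_isMulCommutative A ha hb
      calc a * b * (a * b) = a * (b * a) * b := by group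
        _ = a * (a * b) * b := by rw [this]
        _ = a * a * (b * b) := by group
        _ = 1 := by rw [iha, ihb, one_mul]
    | inv a _ iha => rw [← mul_inv_rev, iha, inv_one]
  have hAL : ∀ a ∈ A, (a : G) ∈ L := fun a ha =>
    ((Subgroup.closure_le (L.comap Y.subtype)).mpr (by rintro x (rfl | rfl) <;> first | exact hl | exact hpL)) ha
  have hAn : ¬ IsCyclic A := by
    intro hcy
    obtain ⟨a, ha⟩ := IsCyclic.exists_generator (α := A)
    have hpow : ∀ b : A, b = 1 ∨ b = a := fun b => by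
      obtain ⟨i, rfl⟩ := Subgroup.mem_zpowers_iff.mp (ha b)
      have ha2 : a ^ (2 : ℤ) = 1 := by
        rw [show (2 : ℤ) = ((2 : ℕ) : ℤ) from rfl, zpow_natCast, sq]
        exact Subtype.ext (hAsq a a.2)
      rcases Int.even_or_odd' i with ⟨j, rfl | rfl⟩
      · left; rw [zpow_mul, ha2, one_zpow]
      · right; rw [zpow_add, zpow_mul, ha2, one_zpow, one_mul, zpow_one]
    have hla := (hpow ⟨⟨l, hlY⟩, Subgroup.subset_closure (Or.inl rfl)⟩).resolve_left
      (fun e' => hl1 (congrArg (fun z : A => ((z : Y) : G)) e'))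
    have hpa := (hpow ⟨⟨p, hpY⟩, Subgroup.subset_closure (Or.inr rfl)⟩).resolve_left
      (fun e' => hp1 (congrArg (fun z : A => ((z : Y) : G)) e'))
    exact hpl (congrArg (fun z : A => ((z : Y) : G)) (hpa.trans hla.symm))
  set O := Cfsg.pPrimeCore 2 Y
  haveI : O.Normal := by infer_instance
  have hA2 : IsPGroup 2 A := fun a => ⟨1, Subtype.ext (by rw [pow_one, sq]; exact hAsq a a.2)⟩
  obtain ⟨kA, hkA⟩ := IsPGroup.iff_card.mp hA2
  have hO : O ≤ H.comap Y.subtype := by
    have hAO : A ≤ Subgroup.normalizer (O : Set Y) := fun a _ => by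
      rw [Subgroup.normalizer_eq_top]; exact Subgroup.mem_top a
    have hcop : (Nat.card A).Coprime (Nat.card O) := by
      rw [hkA]; exact (CfsgLib.card_pPrimeCore_coprime 2).symm.pow_left kA
    rw [← CfsgLib.coprime_generated_by_centralizers (K := O) hAn hAO hcop]
    refine iSup₂_le fun a ha x hx => ?_
    have hx' := congrArg Subtype.val (mem_centralizer_singleton_iff.mp (Subgroup.mem_inf.mp hx).2)
    have ha2 : (a : G) * a = 1 := congrArg Subtype.val (hAsq a ha.1)
    have ha1 : (a : G) ≠ 1 := fun e' => ha.2 (Subtype.ext e')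
    exact m.cent_cls (hAL a ha.1) (m.cls_of_invol (hAL a ha.1) ha2 ha1) hx'
  have hvY : v ∈ Y := mem_centralizer_singleton_iff.mpr hwv.eq.symm
  have hcom := hO (CfsgLib.ZStar.inZStar hlu hiso ⟨v, hvY⟩)
  have hvl : v * l * v⁻¹ ∈ H := by
    have := mul_mem (show v * l * v⁻¹ * l⁻¹ ∈ H from hcom) (m.le_norm hl)
    rwa [inv_mul_cancel_right] at this
  exact hvH (m.conj_cls hl hlc (m.cls_norm hvl (hlc.conj v)))

end CfsgLib.J1WeakClosure
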