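/-
Counting conjugates outside the normaliser of the component.
-/
import Cfsg.Agent.Lib.J1WeakClosure.EvenCase
import Mathlib.Combinatorics.Pigeonhole

set_option autoImplicit false
set_option linter.unusedSectionVars false
set_option maxHeartbeats 400000

namespace CfsgLib.J1WeakClosure

open Subgroup CfsgLib.JankoOne
open CfsgLib.Involutions (orderOf_eq_two_iff')

universe u
variable {G : Type u} [Group G] [Finite G] {t : G} {φ : K →* G} {L : Subgroup G}

theorem Emb.false (m : Emb t φ L) : False := by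
  classical
  haveI : Fact (Nat.Prime 2) := ⟨Nat.prime_two⟩
  have h := m.setup
  have heven := m.cent_odd
  obtain ⟨eL⟩ := m.iso
  set D := centralizer (L : Set G)
  set H := normalizer (L : Set G)
  haveI := Fintype.ofFinite G
  set Out := {x : G // Cls t x ∧ x ∉ H}
  set n := H.index with hn
  have hHcls : Nat.card {x : G // x ∈ H ∧ Cls t x} = 1463 := by
    rw [← h.count m.small m.mov m.ne_top]
    exact Nat.card_congr (Equiv.subtypeEquivRight fun x =>
      ⟨fun hx => ⟨m.cls_norm hx.1 hx.2, hx.2⟩, fun hx => ⟨m.le_norm hx.1, hx.2⟩⟩)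
  have htot : Nat.card {x : G // Cls t x} = n * 1463 := by
    have hG := card_conjugates (L := G) t
    have htH : t ∈ H := m.le_norm m.t_mem
    have hHc := card_conjugates (L := H) ⟨t, htH⟩
    have hc : Nat.card (centralizer ({(⟨t, htH⟩ : H)} : Set H)) = Nat.card (centralizer ({t} : Set G)) :=
      Nat.card_congr
        { toFun := fun x => ⟨((x : H) : G), mem_centralizer_singleton_iff.mpr
            (congrArg Subtype.val (mem_centralizer_singleton_iff.mp x.2))⟩
          invFun := fun x => ⟨⟨x, m.norm x (mem_centralizer_singleton_iff.mp x.2)⟩,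
            mem_centralizer_singleton_iff.mpr (Subtype.ext (mem_centralizer_singleton_iff.mp x.2))⟩
          left_inv := fun _ => rfl
          right_inv := fun _ => rfl }
    have hcl : Nat.card {x : H // ∃ g, g * ⟨t, htH⟩ * g⁻¹ = x} = 1463 := by
      rw [← hHcls]
      refine Nat.card_congr (Equiv.ofBijective
        (fun x => ⟨(x.1 : G), x.1.2, x.2.elim fun g hg => ⟨(g : G), congrArg Subtype.val hg⟩⟩) ⟨?_, ?_⟩)
      · exact fun a b e' => Subtype.ext (Subtype.ext (congrArg Subtype.val e' :))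
      · rintro ⟨x, hx, hc'⟩
        obtain ⟨g, hg, rfl⟩ := h.cls_sub m.mov (m.cls_norm hx hc') hc'
        exact ⟨⟨⟨_, hx⟩, ⟨g, m.le_norm hg⟩, rfl⟩, rfl⟩
    rw [hc, hcl] at hHc
    rw [show Nat.card G = n * Nat.card H from H.index_mul_card.symm, ← hHc, ← mul_assoc] at hG
    exact Nat.eq_of_mul_eq_mul_right Nat.card_pos hG
  have hOut : Nat.card Out = (n - 1) * 1463 := by
    have h1 : Nat.card Out + Nat.card {x : G // x ∈ H ∧ Cls t x} = Nat.card {x : G // Cls t x} := by
      rw [Nat.card_eq_fintype_card, Nat.card_eq_fintype_card, Nat.card_eq_fintype_card]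
      rw [Fintype.card_subtype, Fintype.card_subtype, Fintype.card_subtype, ← Finset.card_union_of_disjoint]
      · congr 1
        ext x
        simp only [Finset.mem_union, Finset.mem_filter, Finset.mem_univ, true_and]
        exact ⟨fun hx => hx.elim (fun a => a.1) (fun a => a.2),
          fun hx => (Classical.em (x ∈ H)).symm.imp (fun a => ⟨hx, a⟩) (fun a => ⟨a, hx⟩)⟩
      · rw [Finset.disjoint_filter]
        tauto
    rw [hHcls, htot] at h1
    rw [Nat.sub_one_mul]
    omega
  have hn2 : 2 ≤ n := by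
    have h0 := H.index_ne_zero_of_finite
    have h1 : n ≠ 1 := fun e' => m.norm_ne_top (Subgroup.index_eq_one.mp e')
    omega
  let f : Out → {q : G ⧸ H // q ≠ ((1 : G) : G ⧸ H)} := fun x => ⟨((x.1 : G) : G ⧸ H), fun e' => x.2.2 (by
    have := QuotientGroup.eq.mp e'.symm
    simpa using this)⟩
  obtain ⟨y, hy⟩ := Fintype.exists_lt_card_fiber_of_mul_lt_card (f := f) (n := 1462) (by
    rw [← Nat.card_eq_fintype_card, ← Nat.card_eq_fintype_card, hOut]
    have : Nat.card {q : G ⧸ H // q ≠ ((1 : G) : G ⧸ H)} = n - 1 := by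
      rw [Nat.card_eq_fintype_card, Fintype.card_subtype_compl, Fintype.card_subtype_eq,
        ← Nat.card_eq_fintype_card, ← Subgroup.index_eq_card]
    rw [this]
    exact Nat.mul_lt_mul_of_pos_left (by norm_num) (by omega))
  obtain ⟨⟨u₀, hu₀, hu₀H⟩, hu₀y⟩ := Finset.card_pos.mp (lt_of_le_of_lt (Nat.zero_le _) hy)
  simp only [Finset.mem_filter, Finset.mem_univ, true_and] at hu₀y
  have hu2 := (m.cls_invol hu₀).1
  have hui : u₀⁻¹ = u₀ := inv_eq_of_mul_eq_one_right hu2
  set P := H ⊓ H.map (MulAut.conj u₀).toMonoidHom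
  let U : Subgroup G :=
    { carrier := {l | l ∈ L ∧ ∃ q ∈ D, l * q ∈ P}
      one_mem' := ⟨one_mem L, 1, one_mem D, by simp [one_mem]⟩
      mul_mem' := by
        rintro a b ⟨ha, q, hq, hqP⟩ ⟨hb, r, hr, hrP⟩
        refine ⟨mul_mem ha hb, q * r, mul_mem hq hr, ?_⟩
        have := mul_mem hqP hrP
        rwa [show a * b * (q * r) = a * (b * q) * r by group, m.comm hb hq, show a * (q * b) * r = a * q * (b * r) by group]
      inv_mem' := by
        rintro a ⟨ha, q, hq, hqP⟩
        refine ⟨inv_mem ha, q⁻¹, inv_mem hq, ?_⟩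
        have := inv_mem hqP
        rwa [m.comm ha hq, mul_inv_rev] at this }
  have hodd : Odd (Nat.card (U.subgroupOf L)) := by
    rw [← Nat.not_even_iff_odd, even_iff_two_dvd]
    intro hd
    obtain ⟨⟨⟨a, haL⟩, haU⟩, ha⟩ := exists_prime_orderOf_dvd_card' 2 hd
    rw [Subgroup.orderOf_mk, Subgroup.orderOf_mk, orderOf_eq_two_iff'] at ha
    obtain ⟨-, q, hq, (hqP : a * q ∈ P)⟩ := (haU : a ∈ U)
    have hqo : Odd (orderOf q) :=
      Odd.of_dvd_nat (Nat.odd_iff.mpr (Nat.two_dvd_ne_zero.mp heven)) (Subgroup.orderOf_dvd_natCard D hq)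
    have haP : a ∈ P := by
      have := pow_mem hqP (orderOf q)
      rw [Commute.mul_pow (m.comm haL hq : Commute a q), pow_orderOf_eq_one, mul_one] at this
      obtain ⟨j, hj⟩ := hqo
      rwa [hj, pow_succ, pow_mul, sq, ha.1, one_pow, one_mul] at this
    obtain ⟨b, hb, hba⟩ := (Subgroup.mem_inf.mp haP).2
    have hba' : u₀ * a * u₀⁻¹ = b := by
      rw [← (show u₀ * b * u₀⁻¹ = a from hba), hui]
      calc u₀ * (u₀ * b * u₀) * u₀ = (u₀ * u₀) * b * (u₀ * u₀) := by group
        _ = b := by rw [hu2]; group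
    have hac := m.cls_of_invol haL ha.1 ha.2
    exact hu₀H (m.conj_cls haL hac (m.cls_norm (hba' ▸ hb) (hac.conj u₀)))
  have hsmall := like_odd_subgroup eL (U.subgroupOf L) hodd
  -- the inverted elements
  set Fib := Finset.univ.filter (fun x => f x = y)
  have hcoset : ∀ x ∈ Fib, u₀⁻¹ * (x.1 : G) ∈ H := by
    intro x hx
    simp only [Fib, Finset.mem_filter, Finset.mem_univ, true_and] at hx
    exact QuotientGroup.eq.mp (congrArg Subtype.val (hu₀y.trans hx.symm))
  choose l hl q hq hlq using fun x : Fib => m.decomp (hcoset x.1 x.2)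
  have hP : ∀ x : Fib, u₀⁻¹ * (x.1.1 : G) ∈ P := fun x => Subgroup.mem_inf.mpr ⟨hcoset x.1 x.2,
    (u₀⁻¹ * (x.1.1 : G))⁻¹, inv_mem (hcoset x.1 x.2), by
      show u₀ * (u₀⁻¹ * (x.1.1 : G))⁻¹ * u₀⁻¹ = u₀⁻¹ * (x.1.1 : G)
      rw [mul_inv_rev, inv_eq_of_mul_eq_one_right (m.cls_invol x.1.2.1).1, inv_inv, hui]
      calc u₀ * ((x.1.1 : G) * u₀) * u₀ = u₀ * (x.1.1 : G) * (u₀ * u₀) := by group
        _ = _ := by rw [hu2, mul_one]⟩
  have hinjl : Function.Injective (fun x : Fib => (⟨⟨l x, hl x⟩, hl x, q x, hq x, hlq x ▸ hP x⟩ : U.subgroupOf L)) := by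
    intro x x' e'
    have el : l x = l x' := congrArg (fun z : U.subgroupOf L => ((z : L) : G)) e'
    set c := (q x)⁻¹ * q x'
    by_cases hc1 : c = 1
    · have : u₀⁻¹ * (x.1.1 : G) = u₀⁻¹ * (x'.1.1 : G) := by rw [hlq, hlq, el, inv_mul_eq_one.mp hc1]
      exact Subtype.ext (Subtype.ext (mul_left_cancel this))
    exfalso
    have hcd : c ∈ D := mul_mem (inv_mem (hq x)) (hq x')
    set a := (x.1.1 : G)
    set a' := (x'.1.1 : G)
    have ha2 : a⁻¹ = a := inv_eq_of_mul_eq_one_right (m.cls_invol x.1.2.1).1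
    have ha2' : a' * a' = 1 := (m.cls_invol x'.1.2.1).1
    have hc : a' = a * c := by
      have e1 : a = u₀ * (l x * q x) := by rw [← hlq]; simp [a]
      have e2 : a' = u₀ * (l x' * q x') := by rw [← hlq]; simp [a']
      rw [e2, e1, ← el]
      simp only [c]
      group
    -- conjugating by an involution of the coset inverts the central part
    have hac : a * c * a = c⁻¹ := by
      rw [hc] at ha2'
      calc a * c * a = a * c * (a * c) * c⁻¹ := by group
        _ = c⁻¹ := by rw [ha2', one_mul]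
    have ht' : (a * t * a⁻¹) * c = c * (a * t * a⁻¹) := by
      have hct : t * c⁻¹ = c⁻¹ * t := m.comm m.t_mem (inv_mem hcd)
      have e2 : c = a * c⁻¹ * a⁻¹ := by rw [← hac]; rw [ha2]; calc c = (a * a) * c * (a * a) := by rw [(m.cls_invol x.1.2.1).1]; group
                                                                  _ = _ := by group
      rw [e2, conj_mul, conj_mul, hct]
    exact x.1.2.2 (m.conj_cls m.t_mem (Cls.self t) ((m.cent_kernel hcd hc1).1 _ ⟨a, rfl⟩ ht'))
  have hbig : Nat.card Fib ≤ Nat.card (U.subgroupOf L) := Nat.card_le_card_of_injective _ hinjl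
  rw [Nat.card_eq_fintype_card, Fintype.card_coe] at hbig
  omega


theorem Setup.kerW_eq_bot (h : Setup t φ) (hs : Small G) (hgen : Subgroup.normalClosure ({t} : Set G) = ⊤)
    (hZ : Subgroup.center G = ⊥) : kerW φ = ⊥ := by
  by_contra hk
  obtain ⟨L, m⟩ := h.exists_emb hs hgen hZ hk
  exact m.false

end CfsgLib.J1WeakClosure
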