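/-
The weak closure characterisation of J1.
-/
import Cfsg.Agent.Lib.J1WeakClosure.OddCase
import Cfsg.Agent.Lib.J1WeakClosure.Centre

set_option autoImplicit false
set_option linter.unusedSectionVars false

namespace CfsgLib.J1WeakClosure

open Subgroup CfsgLib.JankoOne

universe u
variable {G : Type u} [Group G] [Finite G] {t : G} {φ : K →* G}

theorem Setup.iso_of_perfect (h : Setup t φ) (hs : Small G) (hgen : Subgroup.normalClosure ({t} : Set G) = ⊤) :
    Nonempty (G ≃* ↥Cfsg.Spor.J1) := by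
  classical
  haveI : Fact (Nat.Prime 2) := ⟨Nat.prime_two⟩
  have hk := h.kerW_eq_bot hs hgen (h.center_eq_bot hs hgen)
  obtain ⟨S, hS, -⟩ := h.exists_sylow_four
  have hSe : (S : Subgroup G) = four φ := by
    refine le_antisymm (fun x hx => ?_) hS
    obtain ⟨a, ha, q, hq, rfl⟩ := h.split (h.le_centralizer S.2 hS hx)
    rw [hk, Subgroup.mem_bot] at hq
    rw [hq, mul_one]
    exact ha
  have hperf := h.perfect hgen
  have hyp : Hyp t φ := by
    refine ⟨h.inj, fun x => ⟨fun hx => ?_, fun ⟨k, hk'⟩ => hk' ▸ h.range_comm k⟩, h.image, fun H hH => ?_,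
      fun x hx => ?_, fun P => ?_⟩
    · obtain ⟨k, q, hq, rfl⟩ := h.centralizer_decomp hx
      rw [hk, Subgroup.mem_bot] at hq
      exact ⟨k, by rw [hq, mul_one]⟩
    · haveI := Subgroup.normal_of_index_eq_two hH
      haveI : IsCyclic (G ⧸ H) := isCyclic_of_prime_card (p := 2) (by rw [← Subgroup.index_eq_card, hH])
      have hle : commutator G ≤ H := Subgroup.Normal.quotient_commutative_iff_commutator_le.mp
        IsCyclic.commutative
      rw [hperf, top_le_iff] at hle
      rw [hle, Subgroup.index_top] at hH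
      norm_num at hH
    · obtain ⟨n, hn⟩ := hx
      have hd : IsPGroup 2 (Subgroup.zpowers x) := by
        obtain ⟨k, -, hk'⟩ := (Nat.dvd_prime_pow Nat.prime_two).mp (orderOf_dvd_of_pow_eq_one hn)
        exact IsPGroup.of_card (n := k) (by rw [Nat.card_zpowers, hk'])
      obtain ⟨T, hT⟩ := hd.exists_le_sylow
      obtain ⟨g, hg⟩ := MulAction.exists_smul_eq G T S
      have hmem : g * x * g⁻¹ ∈ four φ := by
        rw [← hSe, ← hg, Sylow.coe_subgroup_smul]
        exact Subgroup.mem_map.mpr ⟨x, hT (Subgroup.mem_zpowers x), by simp⟩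
      have := four_sq hmem
      rw [conj_mul, conj_eq_one_iff] at this
      exact this
    · rw [P.card_eq_multiplicity, ← S.card_eq_multiplicity, hSe, card_four h.inj]
  haveI : Finite ↥Cfsg.Spor.J1 := Nat.finite_of_card_ne_zero (by rw [CfsgLib.J1.card_J1]; norm_num)
  haveI : IsSimpleGroup ↥Cfsg.Spor.J1 := CfsgLib.J1.isJ1.1
  obtain ⟨u, hu, ⟨f⟩⟩ := CfsgLib.J1.exists_centralizer_equiv
  have h8 : ∀ P : Sylow 2 ↥Cfsg.Spor.J1, Nat.card (P : Subgroup ↥Cfsg.Spor.J1) = 8 := by
    intro P
    rw [P.card_eq_multiplicity, CfsgLib.J1.card_J1,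
      show (175560 : ℕ) = 2 ^ 3 * 21945 from rfl, Nat.factorization_mul (by norm_num) (by norm_num),
      Finsupp.add_apply, Nat.factorization_pow, Finsupp.smul_apply, Nat.prime_two.factorization_self,
      Nat.factorization_eq_zero_of_not_dvd (show ¬ 2 ∣ 21945 by norm_num)]
    norm_num
  obtain ⟨χ, hχ⟩ := exists_hyp u (CfsgLib.J1Unique.twoCentral_of_card hu h8 f) f
  haveI := Fintype.ofFinite G
  haveI := Fintype.ofFinite ↥Cfsg.Spor.J1
  exact CfsgLib.J1Unique.nonempty_mulEquiv hyp hχ hyp.order.1 hχ.order.1 hyp.order.2 hχ.order.2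

theorem main_aux : ∀ (n : ℕ) (G : Type u) [Group G] [Finite G], Nat.card G = n → ∀ (t : G) (φ : K →* G),
    Setup t φ → Nonempty (↥(Subgroup.normalClosure ({t} : Set G)) ≃* ↥Cfsg.Spor.J1) := by
  intro n
  induction n using Nat.strong_induction_on with
  | _ n ih =>
    intro G _ _ hn t φ h
    have hs : Small G := fun G' _ _ hlt t' φ' h' => ih _ (hn ▸ hlt) G' rfl t' φ' h'
    by_cases hgen : Subgroup.normalClosure ({t} : Set G) = ⊤
    · obtain ⟨e⟩ := h.iso_of_perfect hs hgen
      exact ⟨((MulEquiv.subgroupCongr hgen).trans Subgroup.topEquiv).trans e⟩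
    set N := Subgroup.normalClosure ({t} : Set G)
    have hcls : ∀ x, Cls t x → x ∈ N := by
      rintro x ⟨g, rfl⟩
      exact Subgroup.normalClosure_normal.conj_mem t (Subgroup.subset_normalClosure (Set.mem_singleton t)) g
    have hle : φ.range ≤ N := by
      rw [h.gen, Subgroup.closure_le]
      rintro x ⟨g, rfl, -⟩
      exact hcls _ ⟨g, rfl⟩
    obtain ⟨m, hm, hne⟩ := h.exists_moving
    have hN : Mov t φ N := ⟨hle, _, Subgroup.normalClosure_normal.conj_mem _ (hle ⟨c0, rfl⟩) m, h.mover_moves hm hne⟩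
    obtain ⟨e⟩ := hs N (lt_of_le_of_ne N.card_le_card_group fun e => hgen (N.eq_top_of_card_eq e)) _ _ (h.sub hN)
    have htop : Subgroup.normalClosure ({⟨t, h.t_memX hN⟩} : Set N) = ⊤ := by
      apply Subgroup.map_injective N.subtype_injective
      refine le_antisymm (Subgroup.map_mono le_top) ?_
      rw [← MonoidHom.range_eq_map, Subgroup.range_subtype]
      refine (Subgroup.closure_le _).mpr fun s hs' => ?_
      obtain ⟨a, ha, hax⟩ := Group.mem_conjugatesOfSet_iff.mp hs'
      rw [Set.mem_singleton_iff] at ha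
      subst ha
      obtain ⟨g, hg, hgs⟩ := h.cls_sub hN (hcls s (isConj_iff.mp hax)) (isConj_iff.mp hax)
      have hmem : (⟨g, hg⟩ : N) * ⟨a, h.t_memX hN⟩ * ⟨g, hg⟩⁻¹ ∈
          Subgroup.normalClosure ({⟨a, h.t_memX hN⟩} : Set N) :=
        Subgroup.normalClosure_normal.conj_mem _ (Subgroup.subset_normalClosure (Set.mem_singleton _)) _
      refine SetLike.mem_coe.mpr (Subgroup.mem_map.mpr ⟨_, hmem, ?_⟩)
      simpa using hgs
    exact ⟨((MulEquiv.subgroupCongr htop).trans Subgroup.topEquiv).symm.trans e⟩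

/-- An involution whose weak closure in its centraliser is two times alternating of degree five generates J1. -/
theorem isoJ1 (t : G) (ht : orderOf t = 2) (S : Sylow 2 G) (htS : t ∈ (S : Subgroup G))
    (htc : ∀ s ∈ (S : Subgroup G), s * t = t * s)
    (e : ↥(Subgroup.closure {x : G | ∃ g : G, x = g * t * g⁻¹ ∧ x * t = t * x}) ≃* K) :
    Cfsg.Spor.IsoJ1 ↥(Subgroup.normalClosure ({t} : Set G)) := by
  set W := Subgroup.closure {x : G | ∃ g : G, x = g * t * g⁻¹ ∧ x * t = t * x}
  let φ : K →* G := W.subtype.comp e.symm.toMonoidHom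
  have hinj : Function.Injective φ := W.subtype_injective.comp e.symm.injective
  have htW : t ∈ W := Subgroup.subset_closure ⟨1, by simp, rfl⟩
  have hcomm : ∀ x ∈ W, x * t = t * x := by
    have : W ≤ Subgroup.centralizer ({t} : Set G) := (Subgroup.closure_le _).mpr fun x ⟨g, _, hx⟩ =>
      mem_centralizer_singleton_iff.mpr hx
    exact fun x hx => mem_centralizer_singleton_iff.mp (this hx)
  have ht1 : t ≠ 1 := fun h1 => by rw [h1, orderOf_one] at ht; norm_num at ht
  have hkt : φ (e ⟨t, htW⟩) = t := congrArg Subtype.val (e.symm_apply_apply ⟨t, htW⟩)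
  have himg : φ z0 = t := by
    rcases center_cases (e ⟨t, htW⟩) (fun l => hinj (by
      rw [map_mul, map_mul, hkt]; exact (hcomm _ (e.symm l).2).symm)) with h1 | h1
    · rw [h1, map_one] at hkt; exact absurd hkt.symm ht1
    · rw [h1] at hkt; exact hkt
  refine main_aux _ G rfl t φ ⟨hinj, himg, ?_, S, htS, htc⟩
  show φ.range = W
  rw [MonoidHom.range_comp, MonoidHom.range_eq_top_of_surjective _ e.symm.surjective, ← MonoidHom.range_eq_map,
    Subgroup.range_subtype]

end CfsgLib.J1WeakClosure
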